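import Groth.Agent.PurityRamLib.Chart
import Groth.Agent.GorLib.RegSeq
import Groth.Agent.GorLib.Basic
import Groth.Agent.S0342

/-! # Choice of a regular sequence inside the kernel -/

set_option autoImplicit false
noncomputable section
universe u

open IsLocalRing RingTheory.Sequence

namespace PurityRamLib

variable {R : Type u} [CommRing R]

/-- Avoidance of finitely many primes and of finitely many proper submodules. -/
theorem exists_elem (I : Ideal R) (T S : Finset (Ideal R)) (W : Ideal R → Ideal R)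
    (hTp : ∀ Q ∈ T, Q.IsPrime) (hTi : ∀ Q ∈ T, ∀ Q' ∈ T, Q ≤ Q' → Q = Q')
    (hW : ∀ Q ∈ T, I * Q ≤ W Q) (hx : ∀ Q ∈ T, ∃ x ∈ I, ∀ e ∉ Q, e * x ∉ W Q)
    (hSp : ∀ P ∈ S, P.IsPrime) (hSI : ∀ P ∈ S, ¬ I ≤ P) (hST : ∀ P ∈ S, ∀ Q ∈ T, ¬ Q ≤ P) :
    ∃ x ∈ I, (∀ Q ∈ T, x ∉ W Q) ∧ ∀ P ∈ S, x ∉ P := by
  classical
  choose x hxI hxW using hx
  have hprod : ∀ (U : Finset (Ideal R)) (Q : Ideal R), Q ∈ U → ∏ Q' ∈ U, Q' ≤ Q := fun U Q hQ =>
    (Ideal.prod_le_inf (s := U) (f := fun Q' => Q')).trans (Finset.inf_le (f := fun Q' => Q') hQ)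
  have he : ∀ Q ∈ T, ∃ e, e ∈ (∏ Q' ∈ T.erase Q, Q') ∧ e ∉ Q := fun Q hQ => by
    refine SetLike.not_le_iff_exists.1 fun h => ?_
    obtain ⟨Q', hQ', hle⟩ := ((hTp Q hQ).prod_le).1 h
    exact (Finset.ne_of_mem_erase hQ') (hTi Q' (Finset.mem_of_mem_erase hQ') Q hQ hle)
  choose e he he' using he
  let x₀ : R := ∑ Q ∈ T.attach, e Q.1 Q.2 * x Q.1 Q.2
  have hx₀I : x₀ ∈ I := Ideal.sum_mem _ fun Q _ => Ideal.mul_mem_left _ _ (hxI _ _)
  have hx₀ : ∀ Q ∈ T, x₀ ∉ W Q := by
    intro Q hQ h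
    have hrest : ∀ Q' ∈ T.attach.erase ⟨Q, hQ⟩, e Q'.1 Q'.2 * x Q'.1 Q'.2 ∈ W Q := by
      intro Q' hQ'
      refine hW Q hQ ?_
      rw [mul_comm (e Q'.1 Q'.2)]
      refine Ideal.mul_mem_mul (hxI _ _) ?_
      refine hprod _ Q ?_ (he _ _)
      exact Finset.mem_erase.2 ⟨fun h => (Finset.ne_of_mem_erase hQ') (Subtype.ext h.symm), hQ⟩
    have hsum : e Q hQ * x Q hQ +
        ∑ Q' ∈ T.attach.erase ⟨Q, hQ⟩, e Q'.1 Q'.2 * x Q'.1 Q'.2 ∈ W Q := by
      rwa [Finset.add_sum_erase T.attach (fun Q' => e Q'.1 Q'.2 * x Q'.1 Q'.2) (Finset.mem_attach T ⟨Q, hQ⟩)]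
    exact hxW Q hQ _ (he' Q hQ) ((add_mem_cancel_right (Ideal.sum_mem _ hrest)).1 hsum)
  let S' := S.filter (fun P => ∀ P' ∈ S, P ≤ P' → P = P')
  have hS' : ∀ P ∈ S, ∃ P' ∈ S', P ≤ P' := fun P hP => by
    obtain ⟨P', hle, hmax⟩ := Finset.exists_le_maximal S hP
    exact ⟨P', Finset.mem_filter.2 ⟨hmax.1, fun P'' h'' hle' => le_antisymm hle' (hmax.2 h'' hle')⟩, hle⟩
  let J : Ideal R := (I * ∏ Q ∈ T, Q) * ∏ P ∈ S'.filter (fun P => x₀ ∉ P), P
  let S₁ := S'.filter (fun P => x₀ ∈ P)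
  have hJ : ∀ P ∈ S₁, ¬ J ≤ P := by
    intro P hP hle
    obtain ⟨hPS', hxP⟩ := Finset.mem_filter.1 hP
    obtain ⟨hPS, hPmax⟩ := Finset.mem_filter.1 hPS'
    have hp := hSp P hPS
    rcases (hp.mul_le).1 hle with h | h
    · rcases (hp.mul_le).1 h with h | h
      · exact hSI P hPS h
      · obtain ⟨Q, hQ, hQP⟩ := hp.prod_le.1 h
        exact hST P hPS Q hQ hQP
    · obtain ⟨P', hP', hle'⟩ := hp.prod_le.1 h
      obtain ⟨hP'S', hxP'⟩ := Finset.mem_filter.1 hP'
      obtain ⟨hP'S, hP'max⟩ := Finset.mem_filter.1 hP'S'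
      exact hxP' ((hP'max P hPS hle').symm ▸ hxP)
  obtain ⟨y, hyJ, hy⟩ : ∃ y ∈ J, ∀ P ∈ S₁, y ∉ P := by
    by_contra hcon
    push Not at hcon
    obtain ⟨P, hP, hle⟩ := (Ideal.subset_union_prime (s := S₁) (f := fun P => P) ⊥ ⊥ fun P hP _ _ =>
      hSp P (Finset.mem_filter.1 (Finset.mem_filter.1 hP).1).1).1 fun z hz => by
        obtain ⟨P, hP, hzP⟩ := hcon z hz
        exact Set.mem_iUnion₂.2 ⟨P, hP, hzP⟩
    exact hJ P hP hle
  have hyI : y ∈ I * ∏ Q ∈ T, Q := Ideal.mul_le_left hyJ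
  refine ⟨x₀ + y, add_mem hx₀I (Ideal.mul_le_left hyI), fun Q hQ h => ?_, fun P hP h => ?_⟩
  · refine hx₀ Q hQ ((add_mem_cancel_right (hW Q hQ ?_)).1 h)
    exact Ideal.mul_mono_right (hprod T Q hQ) hyI
  · obtain ⟨P', hP', hle⟩ := hS' P hP
    have h' := hle h
    by_cases hxP : x₀ ∈ P'
    · exact hy P' (Finset.mem_filter.2 ⟨hP', hxP⟩) ((add_mem_cancel_left hxP).1 h')
    · have hyP : y ∈ P' := hprod (S'.filter fun P => x₀ ∉ P) P' (Finset.mem_filter.2 ⟨hP', hxP⟩)
        (Ideal.mul_le_right hyJ)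
      exact hxP ((add_mem_cancel_right hyP).1 h')

theorem isWeaklyRegular_concat (rs : List R) (x : R) (h : IsWeaklyRegular R rs)
    (hx : ∀ y, x * y ∈ Ideal.ofList rs → y ∈ Ideal.ofList rs) : IsWeaklyRegular R (rs ++ [x]) := by
  rw [isWeaklyRegular_append_iff]
  refine ⟨h, (isWeaklyRegular_singleton_iff _ _).2 (IsSMulRegular.of_right_eq_zero_of_smul fun z hz => ?_)⟩
  obtain ⟨y, rfl⟩ := Submodule.Quotient.mk_surjective _ z
  rw [← Submodule.Quotient.mk_smul, Submodule.Quotient.mk_eq_zero] at hz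
  rw [Submodule.Quotient.mk_eq_zero]
  rw [smul_eq_mul, Ideal.mul_top] at hz ⊢
  exact hx y hz

/-- Quotients by regular sequences in a regular local ring are Gorenstein of the expected dimension. -/
theorem quotient_props {R : Type u} [CommRing R] [IsRegularLocalRing R] (rs : List R) (h : IsRegular R rs) :
    LocCoh.IsGorensteinLocalRing (R ⧸ Ideal.ofList rs) ∧
      ringKrullDim (R ⧸ Ideal.ofList rs) + rs.length = ringKrullDim R := by
  have hm := CommAlgDim.mem_maximalIdeal_of_isRegular h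
  haveI := Groth.Agent.S0342.result R
  exact ⟨(GorLib.gorenstein_quotient_ofList_iff _ R rs rfl h.toIsWeaklyRegular hm).1 inferInstance,
    ringKrullDim_add_length_eq_ringKrullDim_of_isRegular rs h⟩

/-- Equations in the kernel, generic at the given primes and regular after the parameter `a`. -/
theorem exists_equations {R : Type u} [CommRing R] [IsRegularLocalRing R] {n : ℕ}
    (D : Fin n → Derivation ℤ R R) (I : Ideal R) (a : R) (T : Finset (Ideal R))
    (hTp : ∀ Q ∈ T, Q.IsPrime) (hTi : ∀ Q ∈ T, ∀ Q' ∈ T, Q ≤ Q' → Q = Q')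
    (hT : ∀ Q ∈ T, I ≤ Q ∧ a ∈ Q ∧ ∃ g : Fin n → R, (∀ i, g i ∈ I) ∧ (jac D (RingHom.id R) g).det ∉ Q)
    (ha : a ∈ maximalIdeal R) (ha0 : a ≠ 0) (hI : I ≤ maximalIdeal R)
    (hdim : ((n + 2 : ℕ) : WithBot ℕ∞) ≤ ringKrullDim R)
    (hC : ∀ P : Ideal R, I ≤ P → a ∈ P → ringKrullDim (R ⧸ P) ≤ 1) :
    ∃ f : Fin n → R, (∀ i, f i ∈ I) ∧ IsRegular R (a :: List.ofFn f) ∧
      ∀ Q ∈ T, (jac D (RingHom.id R) f).det ∉ Q := by
  classical
  haveI := CommAlgDim.isDomain_of_isRegularLocalRing R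
  let ρ : ∀ (Q : Ideal R) [Q.IsPrime], R → (Fin n → Q.ResidueField) := fun Q _ x j => algebraMap R Q.ResidueField (D j x)
  have key : ∀ k ≤ n, ∃ f : Fin k → R, (∀ i, f i ∈ I) ∧ IsRegular R (a :: List.ofFn f) ∧
      ∀ (Q : Ideal R) [Q.IsPrime], Q ∈ T →
        LinearIndependent Q.ResidueField (fun i => ρ Q (f i)) := by
    intro k
    induction k with
    | zero =>
      intro _
      refine ⟨Fin.elim0, fun i => i.elim0, ?_, fun Q _ hQ => linearIndependent_empty_type⟩
      rw [List.ofFn_zero]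
      exact CommAlgDim.isRegular_cons_ring.2 ⟨CommAlgDim.isSMulRegular_of_ne_zero ha0, by
        haveI : Nontrivial (R ⧸ Ideal.span {a}) := Ideal.Quotient.nontrivial_iff.2
          (ne_top_of_le_ne_top (maximalIdeal.isMaximal R).ne_top ((Ideal.span_singleton_le_iff_mem _).2 ha))
        exact IsRegular.nil _ _⟩
    | succ k ih =>
      intro hk
      obtain ⟨f, hfI, hreg, hli⟩ := ih (Nat.le_of_succ_le hk)
      obtain ⟨hG, hdimq⟩ := quotient_props _ hreg
      haveI := hG
      set rs := a :: List.ofFn f with hrs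
      let Rq := R ⧸ Ideal.ofList rs
      let S : Finset (Ideal R) :=
        ((associatedPrimes.finite Rq Rq).image (Ideal.comap (Ideal.Quotient.mk (Ideal.ofList rs)))).toFinset
      have hS : ∀ P ∈ S, P.IsPrime ∧ ¬ (I ≤ P ∧ a ∈ P) := by
        intro P hP
        obtain ⟨p, hp, rfl⟩ := (Set.Finite.mem_toFinset _).1 hP
        haveI := hp.isPrime
        refine ⟨Ideal.IsPrime.comap _, fun ⟨h1, h2⟩ => ?_⟩
        have h3 := CatLib.ringKrullDim_quotient_of_mem_associatedPrimes GorLib.isCM_of_gorenstein hp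
        have h4 := hC _ h1 h2
        rw [← CatLib.ringKrullDim_quotient_quotient, h3] at h4
        obtain ⟨e, he⟩ := CommAlgDim.exists_ringKrullDim_eq (R := Rq)
        rw [he] at h4 hdimq
        rw [← hdimq] at hdim
        simp only [hrs, List.length_cons, List.length_ofFn] at hdim
        norm_cast at h4 hdim
        omega
      have haP : ∀ P ∈ S, a ∈ P := by
        intro P hP
        obtain ⟨p, hp, rfl⟩ := (Set.Finite.mem_toFinset _).1 hP
        rw [Ideal.mem_comap, Ideal.Quotient.eq_zero_iff_mem.2 (Ideal.subset_span (by simp [hrs]))]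
        exact zero_mem _
      let W : Ideal R → Ideal R := fun Q => if hQ : Q ∈ T then
        haveI := hTp Q hQ
        { carrier := {x | x ∈ I ∧ ρ Q x ∈ Submodule.span Q.ResidueField (Set.range fun i => ρ Q (f i))}
          zero_mem' := ⟨zero_mem _, by
            rw [show ρ Q 0 = 0 from funext fun j => by simp [ρ]]; exact zero_mem _⟩
          add_mem' := fun {x y} hx hy => ⟨add_mem hx.1 hy.1, by
            rw [show ρ Q (x + y) = ρ Q x + ρ Q y from funext fun j => by simp [ρ]]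
            exact add_mem hx.2 hy.2⟩
          smul_mem' := fun c x hx => ⟨Ideal.mul_mem_left _ _ hx.1, by
            rw [show ρ Q (c • x) = algebraMap R Q.ResidueField c • ρ Q x from funext fun j => by
              simp only [ρ, smul_eq_mul, Derivation.leibniz, map_add, map_mul, Pi.smul_apply,
                Ideal.algebraMap_residueField_eq_zero.2 ((hT Q hQ).1 hx.1), zero_mul, add_zero]]
            exact Submodule.smul_mem _ _ hx.2⟩ }
        else ⊤
      have hWmem : ∀ (Q : Ideal R) [Q.IsPrime] (hQ : Q ∈ T) (x : R), x ∈ W Q ↔ x ∈ I ∧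
          ρ Q x ∈ Submodule.span Q.ResidueField (Set.range fun i => ρ Q (f i)) := fun Q _ hQ x => by
        simp only [W, dif_pos hQ]; rfl
      obtain ⟨x, hxI, hxW, hxS⟩ := exists_elem I T S W hTp hTi
        (fun Q hQ => Ideal.mul_le.2 fun x hx e he => by
          haveI := hTp Q hQ
          refine (hWmem Q hQ _).2 ⟨Ideal.mul_mem_right _ _ hx, ?_⟩
          rw [show ρ Q (x * e) = 0 from funext fun j => by
            simp only [ρ, Derivation.leibniz, smul_eq_mul, map_add, map_mul, Pi.zero_apply,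
              Ideal.algebraMap_residueField_eq_zero.2 he,
              Ideal.algebraMap_residueField_eq_zero.2 ((hT Q hQ).1 hx), zero_mul, add_zero]]
          exact zero_mem _)
        (fun Q hQ => by
          haveI := hTp Q hQ
          obtain ⟨hIQ, -, g, hgI, hdet⟩ := hT Q hQ
          by_contra hcon
          push Not at hcon
          have hall : ∀ i, ρ Q (g i) ∈ Submodule.span Q.ResidueField (Set.range fun i => ρ Q (f i)) := fun i => by
            obtain ⟨e, he, heW⟩ := hcon (g i) (hgI i)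
            have h1 := ((hWmem Q hQ _).1 heW).2
            rw [show ρ Q (e * g i) = algebraMap R Q.ResidueField e • ρ Q (g i) from funext fun j => by
              simp only [ρ, smul_eq_mul, Derivation.leibniz, map_add, map_mul, Pi.smul_apply,
                Ideal.algebraMap_residueField_eq_zero.2 (hIQ (hgI i)), zero_mul, add_zero],
              Submodule.smul_mem_iff _ (fun h => he (Ideal.algebraMap_residueField_eq_zero.1 h))] at h1
            exact h1
          have hligs : LinearIndependent Q.ResidueField (fun i => ρ Q (g i)) := by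
            refine Matrix.linearIndependent_rows_of_isUnit (A := jac D (algebraMap R Q.ResidueField) g) ?_
            rw [Matrix.isUnit_iff_isUnit_det, det_jac_eq]
            exact isUnit_iff_ne_zero.2 fun h => hdet (Ideal.algebraMap_residueField_eq_zero.1 h)
          have h2 := Submodule.finrank_mono (Submodule.span_le.2 (Set.range_subset_iff.2 hall))
          rw [finrank_span_eq_card hligs, finrank_span_eq_card (hli Q hQ), Fintype.card_fin, Fintype.card_fin] at h2
          omega)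
        (fun P hP => (hS P hP).1) (fun P hP h => (hS P hP).2 ⟨h, haP P hP⟩)
        (fun P hP Q hQ h => (hS P hP).2 ⟨(hT Q hQ).1.trans h, haP P hP⟩)
      refine ⟨Fin.snoc f x, fun i => ?_, ?_, fun Q _ hQ => ?_⟩
      · induction i using Fin.lastCases with
        | last => simpa using hxI
        | cast i => simpa using hfI i
      · have hl : a :: List.ofFn (Fin.snoc f x : Fin (k + 1) → R) = rs ++ [x] := by
          rw [List.ofFn_succ', hrs, List.cons_append, List.concat_eq_append]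
          simp
        rw [hl]
        refine IsRegular.of_isWeaklyRegular_of_mem_maximalIdeal R (fun r hr => ?_)
          (isWeaklyRegular_concat rs x hreg.toIsWeaklyRegular fun y hy => ?_)
        · rcases List.mem_append.1 hr with h | h
          · exact CommAlgDim.mem_maximalIdeal_of_isRegular hreg r h
          · rw [List.mem_singleton.1 h]; exact hI hxI
        · by_contra hy0
          have hy1 : Ideal.Quotient.mk (Ideal.ofList rs) y ≠ 0 := fun h => hy0 (Ideal.Quotient.eq_zero_iff_mem.1 h)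
          have hzd : Ideal.Quotient.mk (Ideal.ofList rs) x ∈ ({r : Rq | IsSMulRegular Rq r}ᶜ : Set Rq) := fun hr =>
            hy1 (hr.right_eq_zero_of_smul (by
              rw [smul_eq_mul, ← map_mul, Ideal.Quotient.eq_zero_iff_mem]; exact hy))
          rw [← biUnion_associatedPrimes_eq_compl_regular Rq Rq, Set.mem_iUnion₂] at hzd
          obtain ⟨p, hp, hxp⟩ := hzd
          exact hxS _ ((Set.Finite.mem_toFinset _).2 ⟨p, hp, rfl⟩) hxp
      · have e : (fun i => ρ Q ((Fin.snoc f x : Fin (k + 1) → R) i)) = Fin.snoc (fun i => ρ Q (f i)) (ρ Q x) :=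
          (Fin.comp_snoc (ρ Q) f x)
        rw [e, linearIndependent_finSnoc]
        exact ⟨hli Q hQ, fun h => hxW Q hQ ((hWmem Q hQ x).2 ⟨hxI, h⟩)⟩
  obtain ⟨f, hfI, hreg, hli⟩ := key n le_rfl
  refine ⟨f, hfI, hreg, fun Q hQ h => ?_⟩
  haveI := hTp Q hQ
  have h1 : IsUnit (jac D (algebraMap R Q.ResidueField) f) :=
    Matrix.linearIndependent_rows_iff_isUnit.1 (hli Q hQ)
  rw [Matrix.isUnit_iff_isUnit_det, det_jac_eq] at h1
  exact h1.ne_zero (Ideal.algebraMap_residueField_eq_zero.2 h)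

end PurityRamLib
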