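import Groth.Agent.PurityRamLib.LocalGood
import Groth.Agent.LiaisonLib.Basic

/-! # Points where a presentation is étale -/

set_option autoImplicit false
noncomputable section
universe u

open IsLocalRing

namespace PurityRamLib

variable {R : Type u} [CommRing R] {B : Type u} [CommRing B] {N : ℕ}

/-- The presentation is standard étale near the prime `Q`. -/
def Et (D : Fin N → Derivation ℤ R R) (θ : R →+* B) (Q : Ideal B) : Prop :=
  ∃ g : Fin N → R, (∀ i, θ (g i) = 0) ∧ (jac D θ g).det ∉ Q ∧
    ∀ x, θ x = 0 → ∃ w, θ w ∉ Q ∧ w * x ∈ Ideal.span (Set.range g)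

/-- Surjectivity up to units. -/
def LocSurj (θ : R →+* B) : Prop := ∀ b : B, ∃ x t, IsUnit (θ t) ∧ θ t * b = θ x

theorem locSurj_of_surjective {θ : R →+* B} (h : Function.Surjective θ) : LocSurj θ := fun b => by
  obtain ⟨x, rfl⟩ := h b
  exact ⟨x, 1, by simp, by simp⟩

/-- Partial derivatives. -/
abbrev pd {A : Type u} [CommRing A] {n : ℕ} (j : Fin n) :
    Derivation ℤ (MvPolynomial (Fin n) A) (MvPolynomial (Fin n) A) :=
  (MvPolynomial.pderiv j).restrictScalars ℤ

theorem height_le_comap_add {A : Type u} [CommRing A] [IsNoetherianRing A] (n : ℕ)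
    (P : Ideal (MvPolynomial (Fin n) A)) [P.IsPrime] :
    P.height ≤ (P.comap MvPolynomial.C).height + n := by
  let p := P.comap (MvPolynomial.C (σ := Fin n) (R := A))
  let Ap := Localization.AtPrime p
  letI : Algebra (MvPolynomial (Fin n) A) (MvPolynomial (Fin n) Ap) := MvPolynomial.algebraMvPolynomial
  haveI : IsLocalization (p.primeCompl.map (MvPolynomial.C (σ := Fin n))) (MvPolynomial (Fin n) Ap) :=
    MvPolynomial.isLocalization p.primeCompl Ap
  have hd : Disjoint ((p.primeCompl.map (MvPolynomial.C (σ := Fin n)) : Submonoid _) : Set (MvPolynomial (Fin n) A))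
      (P : Set (MvPolynomial (Fin n) A)) :=
    Set.disjoint_left.2 fun x ⟨a, ha, hax⟩ hx => ha (show MvPolynomial.C a ∈ P from hax ▸ hx)
  rw [← IsLocalization.height_map_of_disjoint (S := MvPolynomial (Fin n) Ap) _ P hd]
  haveI := IsLocalization.isPrime_of_isPrime_disjoint _ (MvPolynomial (Fin n) Ap) P inferInstance hd
  have h := Ideal.height_le_ringKrullDim_of_ne_top
    (I := P.map (algebraMap _ (MvPolynomial (Fin n) Ap))) Ideal.IsPrime.ne_top'
  rw [MvPolynomial.ringKrullDim_of_isNoetherianRing, IsLocalization.AtPrime.ringKrullDim_eq_height p Ap,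
    Nat.card_fin] at h
  exact_mod_cast h

section Local

variable (θ : R →+* B) (Q : Ideal B) [Q.IsPrime]

/-- The map of local rings. -/
def locMap : Localization.AtPrime (Q.comap θ) →+* Localization.AtPrime Q :=
  Localization.localRingHom (Q.comap θ) Q θ rfl

theorem locMap_to_map (x : R) :
    locMap θ Q (algebraMap R (Localization.AtPrime (Q.comap θ)) x) = algebraMap B (Localization.AtPrime Q) (θ x) :=
  Localization.localRingHom_to_map (Q.comap θ) Q θ rfl x

theorem locMap_surjective (hθ : LocSurj θ) : Function.Surjective (locMap θ Q) := fun y => by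
  obtain ⟨b, s, rfl⟩ := IsLocalization.exists_mk'_eq Q.primeCompl y
  obtain ⟨x, t, ht, hx⟩ := hθ b
  obtain ⟨x', t', ht', hx'⟩ := hθ (s : B)
  have hden : t * x' ∈ (Q.comap θ).primeCompl := by
    intro h
    rw [SetLike.mem_coe, Ideal.mem_comap, map_mul] at h
    rw [← hx'] at h
    exact s.2 ((Ideal.unit_mul_mem_iff_mem _ ht').1 ((Ideal.unit_mul_mem_iff_mem _ ht).1 h))
  refine ⟨IsLocalization.mk' _ (x * t') (⟨_, hden⟩ : (Q.comap θ).primeCompl), ?_⟩
  refine (Localization.localRingHom_mk' (Q.comap θ) Q θ rfl _ _).trans ?_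
  rw [IsLocalization.mk'_eq_iff_eq]
  congr 1
  simp only [map_mul, ← hx, ← hx']
  ring

theorem exists_of_locMap_eq_zero {x : R}
    (hx : locMap θ Q (algebraMap R (Localization.AtPrime (Q.comap θ)) x) = 0) :
    ∃ w, w ∉ Q ∧ w * θ x = 0 := by
  rw [locMap_to_map] at hx
  obtain ⟨w, hw⟩ := (IsLocalization.map_eq_zero_iff Q.primeCompl _ _).1 hx
  exact ⟨w, w.2, hw⟩

variable (D : Fin N → Derivation ℤ R R)

/-- At an étale point the kernel of the map of local rings is generated by the equations. -/
theorem ker_locMap (hθ : LocSurj θ) {g : Fin N → R} (hg : ∀ i, θ (g i) = 0)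
    (hgen : ∀ x, θ x = 0 → ∃ w, θ w ∉ Q ∧ w * x ∈ Ideal.span (Set.range g)) :
    RingHom.ker (locMap θ Q) =
      Ideal.span (Set.range fun i => algebraMap R (Localization.AtPrime (Q.comap θ)) (g i)) := by
  refine le_antisymm (fun z hz => ?_) (Ideal.span_le.2 ?_)
  · obtain ⟨x, t, rfl⟩ := IsLocalization.exists_mk'_eq (Q.comap θ).primeCompl z
    rw [RingHom.mem_ker] at hz
    have hz' : locMap θ Q (algebraMap R _ x) = 0 := by
      rw [← IsLocalization.mk'_spec (Localization.AtPrime (Q.comap θ)) x t, map_mul, hz, zero_mul]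
    obtain ⟨w, hw, hw0⟩ := exists_of_locMap_eq_zero θ Q hz'
    obtain ⟨x', t', ht', hx'⟩ := hθ w
    have hw' : θ x' ∉ Q := by
      rw [← hx']
      exact fun h => hw ((Ideal.unit_mul_mem_iff_mem _ ht').1 h)
    obtain ⟨v, hv, hvx⟩ := hgen (x' * x) (by rw [map_mul, ← hx', mul_assoc, hw0, mul_zero])
    rw [show (Set.range fun i => algebraMap R (Localization.AtPrime (Q.comap θ)) (g i)) =
      algebraMap R _ '' Set.range g from by rw [← Set.range_comp]; rfl, ← Ideal.map_span,
      IsLocalization.mk'_mem_map_algebraMap_iff (Q.comap θ).primeCompl]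
    refine ⟨v * x', fun h => ?_, by rwa [mul_assoc]⟩
    rw [SetLike.mem_coe, Ideal.mem_comap, map_mul] at h
    exact (Ideal.IsPrime.mem_or_mem ‹_› h).elim hv hw'
  · rintro _ ⟨i, rfl⟩
    rw [SetLike.mem_coe, RingHom.mem_ker, locMap_to_map, hg, map_zero]

variable [IsRegularRing R]

/-- Étale points are regular points, with the expected height. -/
theorem et_regular (hθ : LocSurj θ) (h : Et D θ Q) :
    IsRegularLocalRing (Localization.AtPrime Q) ∧ Q.height + N = (Q.comap θ).height := by
  obtain ⟨g, hg, hdet, hgen⟩ := h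
  have hgQ : ∀ i, g i ∈ Q.comap θ := fun i => by rw [Ideal.mem_comap, hg]; exact zero_mem _
  have hdet' : (jac D (RingHom.id R) g).det ∉ Q.comap θ := by
    rw [Ideal.mem_comap, ← det_jac_eq]; exact hdet
  obtain ⟨hreg, hq⟩ := regular_at D (Q.comap θ) g hgQ hdet'
  let e := (Ideal.quotEquivOfEq (ker_locMap θ Q hθ hg hgen).symm).trans
    (RingHom.quotientKerEquivOfSurjective (locMap_surjective θ Q hθ))
  refine ⟨IsRegularLocalRing.of_ringEquiv e, ?_⟩
  have h2 := ringKrullDim_add_length_eq_ringKrullDim_of_isRegular _ hreg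
  rw [List.length_ofFn, ringKrullDim_eq_of_ringEquiv ((Ideal.quotEquivOfEq (ofList_ofFn _)).trans e),
    IsLocalization.AtPrime.ringKrullDim_eq_height Q, IsLocalization.AtPrime.ringKrullDim_eq_height (Q.comap θ)] at h2
  exact WithBot.coe_inj.1 h2

/-- The quotient by a parameter killed by the derivations is still regular. -/
theorem et_regular_quot [IsDomain B] (hθ : LocSurj θ) (h : Et D θ Q) (a : R) (ha : θ a ∈ Q)
    (ha0 : θ a ≠ 0) (hDa : ∀ j, D j a = 0) [IsRegularRing (R ⧸ Ideal.span {a})] :
    IsRegularLocalRing (Localization.AtPrime Q ⧸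
      Ideal.span {algebraMap B (Localization.AtPrime Q) (θ a)}) := by
  obtain ⟨g, hg, hdet, hgen⟩ := h
  let S := Localization.AtPrime (Q.comap θ)
  choose D' hD' using fun j => exists_loc_der (Q.comap θ).primeCompl S (D j)
  have hgm : ∀ i, algebraMap R S (g i) ∈ maximalIdeal S := fun i =>
    (IsLocalization.AtPrime.to_map_mem_maximal_iff S (Q.comap θ) (g i)).2
      (by rw [Ideal.mem_comap, hg]; exact zero_mem _)
  have ham : algebraMap R S a ∈ maximalIdeal S :=
    (IsLocalization.AtPrime.to_map_mem_maximal_iff S (Q.comap θ) a).2 ha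
  have ha1 : algebraMap R S a ≠ 0 := fun h0 => by
    obtain ⟨w, hw⟩ := (IsLocalization.map_eq_zero_iff (Q.comap θ).primeCompl S _).1 h0
    have := congrArg θ hw
    rw [map_mul, map_zero, mul_eq_zero] at this
    exact this.elim (fun h => w.2 (by rw [SetLike.mem_coe, Ideal.mem_comap, h]; exact zero_mem _)) ha0
  have haQ : Ideal.span {a} ≤ Q.comap θ := (Ideal.span_singleton_le_iff_mem _).2 ha
  have hsq : algebraMap R S a ∉ maximalIdeal S ^ 2 := by
    obtain ⟨hp, ⟨e⟩⟩ := LiaisonLib.exists_quot_equiv haQ
    haveI := hp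
    haveI : IsRegularLocalRing (S ⧸ (Ideal.span {a}).map (algebraMap R S)) :=
      IsRegularLocalRing.of_ringEquiv e.symm
    have hne : (Ideal.span {a}).map (algebraMap R S) ≠ ⊥ := by
      rw [Ideal.map_span, Set.image_singleton, Ne, Ideal.span_singleton_eq_bot]; exact ha1
    have h1 := CommAlgDim.not_le_sq_of_regular_quotient hne
    rwa [Ideal.map_span, Set.image_singleton, Ideal.span_singleton_le_iff_mem] at h1
  have hu : IsUnit (jac D' (RingHom.id S) fun i => algebraMap R S (g i)).det := by
    have e : (jac D' (RingHom.id S) fun i => algebraMap R S (g i)) = jac D (algebraMap R S) g :=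
      Matrix.ext fun i j => hD' j (g i)
    rw [e, det_jac_eq]
    refine IsLocalization.map_units S (⟨_, ?_⟩ : (Q.comap θ).primeCompl)
    exact fun h => hdet (by rw [det_jac_eq]; exact h)
  obtain ⟨-, hreg⟩ := isRegular_of_li (N + 1) S (Fin.cons (algebraMap R S a) fun i => algebraMap R S (g i))
    (fun i => by cases i using Fin.cases with
      | zero => simpa using ham
      | succ i => simpa using hgm i)
    (fun c hc => by
      rw [Fin.sum_univ_succ] at hc
      simp only [Fin.cons_zero, Fin.cons_succ] at hc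
      have htail : ∀ i, c (Fin.succ i) ∈ maximalIdeal S := by
        have h1 : ∀ k, ∑ i, c (Fin.succ i) * D' k (algebraMap R S (g i)) ∈ maximalIdeal S := fun k => by
          have h2 := derivation_mem_of_sq (D' k) hc
          rw [map_add, map_sum] at h2
          simp only [Derivation.leibniz, smul_eq_mul, Finset.sum_add_distrib, hD', hDa, map_zero,
            mul_zero, zero_add] at h2
          have h3 := (add_mem_cancel_left (Ideal.mul_mem_right _ _ ham)).1 h2
          simp only [hD']
          exact (add_mem_cancel_right (Ideal.sum_mem _ fun i _ => Ideal.mul_mem_right _ _ (hgm i))).1 h3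
        have hu' : IsUnit (jac D' (residue S) fun i => algebraMap R S (g i)).det := by
          rw [det_jac_eq]; exact hu.map (residue S)
        have h3 : Matrix.vecMul (fun i => residue S (c (Fin.succ i)))
            (jac D' (residue S) fun i => algebraMap R S (g i)) = 0 := funext fun k => by
          show ∑ i, residue S (c (Fin.succ i)) * residue S (D' k (algebraMap R S (g i))) = 0
          simp only [← map_mul]
          rw [← map_sum]
          exact (residue_eq_zero_iff _).2 (h1 k)
        exact fun i => (residue_eq_zero_iff _).1 (congrFun (Matrix.eq_zero_of_vecMul_eq_zero hu'.ne_zero h3) i)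
      intro i
      induction i using Fin.cases with
      | zero =>
        have h4 : ∑ i, c (Fin.succ i) * algebraMap R S (g i) ∈ maximalIdeal S ^ 2 := by
          rw [sq]
          exact Ideal.sum_mem _ fun i _ => Ideal.mul_mem_mul (htail i) (hgm i)
        have h5 := (add_mem_cancel_right h4).1 hc
        by_contra hc0
        exact hsq ((Ideal.unit_mul_mem_iff_mem _ (notMem_maximalIdeal.1 hc0)).1 h5)
      | succ i => exact htail i)
  let π := (Ideal.Quotient.mk (Ideal.span {algebraMap B (Localization.AtPrime Q) (θ a)})).comp (locMap θ Q)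
  have hπ : Function.Surjective π := Ideal.Quotient.mk_surjective.comp (locMap_surjective θ Q hθ)
  have hker : RingHom.ker π = Ideal.span
      (Set.range (Fin.cons (algebraMap R S a) fun i => algebraMap R S (g i) : Fin (N + 1) → S)) := by
    rw [Fin.range_cons, Ideal.span_insert, ← ker_locMap θ Q hθ hg hgen, ← RingHom.comap_ker,
      Ideal.mk_ker, ← locMap_to_map θ Q a, ← Set.image_singleton, ← Ideal.map_span,
      Ideal.comap_map_of_surjective _ (locMap_surjective θ Q hθ), ← RingHom.ker_eq_comap_bot]
  exact IsRegularLocalRing.of_ringEquiv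
    ((Ideal.quotEquivOfEq hker.symm).trans (RingHom.quotientKerEquivOfSurjective hπ))

end Local

theorem ringKrullDim_lt_of_surjective {E F : Type u} [CommRing E] [CommRing F] [IsRegularLocalRing E]
    (π : E →+* F) (hπ : Function.Surjective π) (hinj : ¬ Function.Injective π) :
    ringKrullDim F < ringKrullDim E := by
  rw [← ringKrullDim_eq_of_ringEquiv (RingHom.quotientKerEquivOfSurjective hπ)]
  exact CommAlgDim.ringKrullDim_quotient_lt fun h => hinj ((RingHom.injective_iff_ker_eq_bot π).2 h)

/-- Points with an invertible Jacobian and the expected height are étale points. -/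
theorem et_of_height {A : Type u} [CommRing A] [IsRegularRing A] {n : ℕ}
    (ψ : MvPolynomial (Fin n) A →+* B) (hψ : LocSurj ψ) (Q : Ideal B) [Q.IsPrime]
    (g : Fin n → MvPolynomial (Fin n) A) (hg : ∀ i, ψ (g i) = 0) (hdet : (jac pd ψ g).det ∉ Q)
    (hht : Q.height = (Q.comap (ψ.comp MvPolynomial.C)).height) :
    Et pd ψ Q := by
  refine ⟨g, hg, hdet, fun x hx => ?_⟩
  haveI : IsRegularRing (MvPolynomial (Fin n) A) := inferInstance
  let Q' := Q.comap ψ
  let S := Localization.AtPrime Q'
  have hgQ : ∀ i, g i ∈ Q' := fun i => by rw [Ideal.mem_comap, hg]; exact zero_mem _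
  have hdet' : (jac pd (RingHom.id _) g).det ∉ Q' := by
    rw [Ideal.mem_comap, ← det_jac_eq]; exact hdet
  obtain ⟨hreg, hq⟩ := regular_at pd Q' g hgQ hdet'
  set J := Ideal.span (Set.range fun i => algebraMap (MvPolynomial (Fin n) A) S (g i))
  let π : S →+* Localization.AtPrime Q := locMap ψ Q
  haveI : IsRegularLocalRing (S ⧸ J) := hq
  have hJ : J ≤ RingHom.ker π := Ideal.span_le.2 (by
    rintro _ ⟨i, rfl⟩
    rw [SetLike.mem_coe, RingHom.mem_ker]
    show locMap ψ Q _ = 0
    rw [locMap_to_map, hg, map_zero])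
  have hkerJ : RingHom.ker π = J := by
    refine le_antisymm ?_ hJ
    by_contra hne
    let π' : S ⧸ J →+* Localization.AtPrime Q := Ideal.Quotient.lift J π fun y hy => hJ hy
    have hπ' : Function.Surjective π' := fun y => by
      obtain ⟨x, rfl⟩ := locMap_surjective ψ Q hψ y
      exact ⟨Ideal.Quotient.mk _ x, rfl⟩
    have hI : ¬ Function.Injective π' := fun hinj => hne fun y hy => by
      have h0 : π' (Ideal.Quotient.mk J y) = π' (Ideal.Quotient.mk J 0) := by
        show π y = π 0
        rw [RingHom.mem_ker.1 hy, map_zero]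
      exact Ideal.Quotient.eq_zero_iff_mem.1 ((hinj h0).trans (map_zero _))
    have hlt := ringKrullDim_lt_of_surjective (E := S ⧸ J) (F := Localization.AtPrime Q) π' hπ' hI
    rw [IsLocalization.AtPrime.ringKrullDim_eq_height Q] at hlt
    obtain ⟨e, he⟩ := CommAlgDim.exists_ringKrullDim_eq (R := S ⧸ J)
    have h2 := ringKrullDim_add_length_eq_ringKrullDim_of_isRegular _ hreg
    rw [List.length_ofFn, ringKrullDim_eq_of_ringEquiv (Ideal.quotEquivOfEq (ofList_ofFn _)), he,
      IsLocalization.AtPrime.ringKrullDim_eq_height Q' S] at h2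
    rw [he] at hlt
    have h3 : (Q'.height : ℕ∞) ≤ Q.height + n :=
      (height_le_comap_add n Q').trans_eq (by rw [hht]; rfl)
    have h4 : ((e : ℕ∞) + n) = Q'.height := by exact_mod_cast h2
    have h5 : Q.height < (e : ℕ∞) := by exact_mod_cast hlt
    rw [← h4] at h3
    generalize Q.height = q at h3 h5
    lift q to ℕ using ne_top_of_lt h5
    norm_cast at h3 h5
    omega
  have hx' : algebraMap (MvPolynomial (Fin n) A) S x ∈ J := by
    rw [← hkerJ, RingHom.mem_ker]
    show locMap ψ Q _ = 0
    rw [locMap_to_map, hx, map_zero]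
  rw [show J = (Ideal.span (Set.range g)).map (algebraMap _ S) by
    rw [Ideal.map_span, ← Set.range_comp]; rfl,
    IsLocalization.algebraMap_mem_map_algebraMap_iff Q'.primeCompl] at hx'
  obtain ⟨w, hw, hwx⟩ := hx'
  exact ⟨w, hw, hwx⟩

end PurityRamLib
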