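import Groth.Agent.PurityRamLib.Key
import Groth.Agent.CohenLib.FlatUnramified
import Groth.Agent.NormalLib.Regular
import Groth.Agent.DepthLib.GeomNormal

/-! # Passing to a complete base -/

set_option autoImplicit false
set_option linter.all false
set_option maxHeartbeats 1000000
noncomputable section
universe u

open IsLocalRing RingTheory.Sequence

namespace PurityRamLib

attribute [local instance 10000] Ring.toIntAlgebra

/-- Flatness of a quotient by an extended ideal. -/
theorem flat_quotient {A B : Type u} [CommRing A] [CommRing B] [Algebra A B] [Module.Flat A B] (I : Ideal A) :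
    Module.Flat (A ⧸ I) (B ⧸ I.map (algebraMap A B)) :=
  Module.Flat.of_linearEquiv (Algebra.TensorProduct.quotIdealMapEquivQuotTensor B I).toLinearEquiv

/-- Flat base change of a surjection. -/
theorem exists_flat_lift {P Q B : Type u} [CommRing P] [CommRing Q] [CommRing B] (π : P →+* B)
    (hπ : Function.Surjective π) [Algebra P Q] [Module.Flat P Q] :
    ∃ j : B →+* Q ⧸ (RingHom.ker π).map (algebraMap P Q),
      (∀ x, j (π x) = Ideal.Quotient.mk _ (algebraMap P Q x)) ∧ j.Flat := by
  let e := RingHom.quotientKerEquivOfSurjective hπ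
  refine ⟨RingHom.comp (algebraMap (P ⧸ RingHom.ker π) (Q ⧸ (RingHom.ker π).map (algebraMap P Q))) (e.symm : B →+* P ⧸ RingHom.ker π),
    fun x => ?_, RingHom.Flat.comp (RingHom.Flat.of_bijective e.symm.bijective)
      (RingHom.flat_algebraMap_iff.2 (flat_quotient (RingHom.ker π)))⟩
  show algebraMap (P ⧸ RingHom.ker π) _ (e.symm (π x)) = _
  rw [show e.symm (π x) = Ideal.Quotient.mk _ x from e.symm_apply_eq.2 rfl]
  rfl

/-- A polynomial ring over a flat algebra is flat. -/
theorem flat_mvPolynomial {A E : Type u} [CommRing A] [CommRing E] [Algebra A E] [Module.Flat A E] (n : ℕ) :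
    @Module.Flat (MvPolynomial (Fin n) A) (MvPolynomial (Fin n) E) _ _
      (MvPolynomial.algebraMvPolynomial : Algebra (MvPolynomial (Fin n) A) (MvPolynomial (Fin n) E)).toModule := by
  letI : Algebra (MvPolynomial (Fin n) A) (MvPolynomial (Fin n) E) := MvPolynomial.algebraMvPolynomial
  exact Module.Flat.isBaseChange A (MvPolynomial (Fin n) A) E (MvPolynomial (Fin n) E)
    (Algebra.IsPushout.out (R := A) (S := MvPolynomial (Fin n) A) (R' := E) (S' := MvPolynomial (Fin n) E))

/-- A punctured regular ring of depth two is normal. -/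
theorem normal_of_punctured_regular (T : Type u) [CommRing T] [IsLocalRing T] [IsNoetherianRing T]
    (h2 : CommAlgDim.HasSeqIn (maximalIdeal T) T 2) (hd : (2 : WithBot ℕ∞) ≤ ringKrullDim T)
    (hreg : ∀ (Q : Ideal T) [Q.IsPrime], Q ≠ maximalIdeal T → IsRegularLocalRing (Localization.AtPrime Q)) :
    IsDomain T ∧ IsIntegrallyClosed T := by
  refine (DepthLib.normal_iff_r1_s2 T).2 ⟨fun p _ hp => hreg p fun h => ?_, fun p hpp => ?_⟩
  · rw [h] at hp
    rw [← IsLocalRing.maximalIdeal_height_eq_ringKrullDim] at hd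
    have h3 : (2 : ℕ∞) ≤ (maximalIdeal T).height := WithBot.coe_le_coe.1 hd
    exact absurd (h3.trans hp) (by norm_num)
  · rw [SMTLib.supportDim_localized_self, ← IsLocalization.AtPrime.ringKrullDim_eq_height p (Localization.AtPrime p)]
    have e := CommAlgDim.depth_congr (B := Localization.AtPrime p)
      ((IsLocalizedModule.iso p.primeCompl (Algebra.linearMap T (Localization.AtPrime p))).extendScalarsOfIsLocalization
        p.primeCompl (Localization.AtPrime p))
    rw [e]
    by_cases hp : p = maximalIdeal T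
    · refine (min_le_left _ _).trans (WithBot.coe_le_coe.2 ?_)
      rw [CommAlgDim.le_depth_iff]
      exact (h2.localization hp.ge).congr
        ((IsLocalizedModule.iso p.primeCompl (Algebra.linearMap T (Localization.AtPrime p))).extendScalarsOfIsLocalization
          p.primeCompl (Localization.AtPrime p))
    · haveI := hreg p hp
      exact (min_le_right _ _).trans (NormalLib.le_depth_self_of_isRegularLocalRing _)

variable {A : Type u} [CommRing A] [IsRegularLocalRing A] {B : Type u} [CommRing B] [IsDomain B]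
  [IsNoetherianRing B] [IsLocalRing B] [IsIntegrallyClosed B] {n : ℕ}

/-- Equidimensionality and residual algebraicity over a regular local ring. -/
theorem concl (ψ : MvPolynomial (Fin n) A →+* B) (hψ : LocSurj ψ)
    (hm : (maximalIdeal B).comap (ψ.comp MvPolynomial.C) = maximalIdeal A)
    (hd : (2 : WithBot ℕ∞) ≤ ringKrullDim B)
    (het : ∀ (Q : Ideal B) [Q.IsPrime], Q ≠ maximalIdeal B → Et pd ψ Q) : Concl ψ := by
  classical
  let Ah := AdicCompletion (maximalIdeal A) A
  obtain ⟨hloc, hnoeth, hlh, hmh, hres⟩ :=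
    CohenLib.completion_facts A (maximalIdeal A) (maximalIdeal.isMaximal A).ne_top
  haveI := hloc
  haveI := hnoeth
  haveI : IsRegularLocalRing Ah :=
    (CohenLib.isRegularLocalRing_adicCompletion_iff A (maximalIdeal A) (maximalIdeal.isMaximal A).ne_top).1 ‹_›
  haveI : IsAdicComplete (maximalIdeal Ah) Ah := hmh ▸ (IsAdicComplete.map_algebraMap_iff _ _).2
    (AdicCompletion.isAdicComplete (M := A) (IsNoetherian.noetherian _))
  let R := MvPolynomial (Fin n) A
  let Rh := MvPolynomial (Fin n) Ah
  letI : Algebra (MvPolynomial (Fin n) A) (MvPolynomial (Fin n) Ah) := MvPolynomial.algebraMvPolynomial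
  haveI : Module.Flat (MvPolynomial (Fin n) A) (MvPolynomial (Fin n) Ah) := flat_mvPolynomial n
  let ι : R →+* Rh := MvPolynomial.map (algebraMap A Ah)
  let m' := (maximalIdeal B).comap ψ
  -- the point over the completion
  let φ : Ah →+* ResidueField B := (Ideal.Quotient.lift (maximalIdeal A)
    ((residue B).comp (ψ.comp MvPolynomial.C)) fun a ha => by
      rw [← hm] at ha
      exact (residue_eq_zero_iff _).2 ha).comp (AdicCompletion.evalOneₐ (maximalIdeal A)).toRingHom
  let χ : Rh →+* ResidueField B := MvPolynomial.eval₂Hom φ fun i => residue B (ψ (MvPolynomial.X i))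
  have hχ : ∀ x : R, χ (ι x) = residue B (ψ x) := RingHom.congr_fun (show χ.comp ι = (residue B).comp ψ from
    MvPolynomial.ringHom_ext (fun a => by
      show MvPolynomial.eval₂Hom φ _ (MvPolynomial.map (algebraMap A Ah) (MvPolynomial.C a)) = _
      rw [MvPolynomial.map_C, MvPolynomial.eval₂Hom_C]
      simp only [φ, RingHom.comp_apply, AlgHom.toRingHom_eq_coe, RingHom.coe_coe]
      rw [AlgHom.commutes]
      rfl) (fun i => by
      show MvPolynomial.eval₂Hom φ _ (MvPolynomial.map (algebraMap A Ah) (MvPolynomial.X i)) = _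
      rw [MvPolynomial.map_X, MvPolynomial.eval₂Hom_X']
      rfl))
  let 𝔫 : Ideal Rh := RingHom.ker χ
  haveI : 𝔫.IsPrime := RingHom.ker_isPrime χ
  have hcomap : m' = 𝔫.comap ι := by
    ext x
    show ψ x ∈ maximalIdeal B ↔ χ (ι x) = 0
    rw [hχ, residue_eq_zero_iff]
  haveI hιloc : m'.IsPrime := Ideal.comap_isPrime _ _
  have hn : 𝔫 = m'.map ι := by
    refine le_antisymm (fun x hx => ?_) (Ideal.map_le_iff_le_comap.2 hcomap.le)
    have hsurj : Function.Surjective ((MvPolynomial.map (residue Ah)).comp ι : R →+* MvPolynomial (Fin n) (ResidueField Ah)) := by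
      rw [show (MvPolynomial.map (residue Ah)).comp ι = MvPolynomial.map ((residue Ah).comp (algebraMap A Ah)) from
        RingHom.ext fun y => MvPolynomial.map_map _ _ y]
      refine MvPolynomial.map_surjective _ fun b => ?_
      obtain ⟨b, rfl⟩ := residue_surjective b
      obtain ⟨a, ha⟩ := hres b
      exact ⟨a, (sub_eq_zero.1 (by rw [RingHom.comp_apply, ← map_sub]; exact (residue_eq_zero_iff _).2 ha)).symm⟩
    obtain ⟨y, hy⟩ := hsurj (MvPolynomial.map (residue Ah) x)
    have hz : x - ι y ∈ m'.map ι := by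
      have h1 : x - ι y ∈ RingHom.ker (MvPolynomial.map (residue Ah)) := by
        rw [RingHom.mem_ker, map_sub, ← hy]; exact sub_self _
      rw [MvPolynomial.ker_map, ker_residue, ← hmh, Ideal.map_map] at h1
      refine (Ideal.map_le_iff_le_comap.2 fun a ha => ?_) h1
      rw [Ideal.mem_comap, RingHom.comp_apply,
        show MvPolynomial.C (algebraMap A Ah a) = ι (MvPolynomial.C a) from (MvPolynomial.map_C _ _).symm]
      refine Ideal.mem_map_of_mem ι ?_
      rw [← hm] at ha
      exact ha
    have h2 : y ∈ m' := by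
      rw [hcomap, Ideal.mem_comap]
      have h3 : x - ι y ∈ 𝔫 := (Ideal.map_le_iff_le_comap.2 hcomap.le) hz
      simpa using Ideal.sub_mem _ hx h3
    simpa using add_mem hz (Ideal.mem_map_of_mem ι h2)
  obtain ⟨Ph, _, _, _⟩ : ∃ (Q : Type u) (_ : CommRing Q) (_ : Algebra (MvPolynomial (Fin n) Ah) Q),
      IsLocalization.AtPrime Q 𝔫 := ⟨Localization.AtPrime 𝔫, inferInstance, inferInstance, inferInstance⟩
  haveI : IsLocalRing Ph := IsLocalization.AtPrime.isLocalRing Ph 𝔫
  let φl : Pt ψ →+* Ph := IsLocalization.map Ph ι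
    (show m'.primeCompl ≤ 𝔫.primeCompl.comap ι from fun x hx h => hx (hcomap.ge h))
  have hφl : ∀ x : R, φl (algebraMap R (Pt ψ) x) = algebraMap Rh Ph (ι x) := fun x => IsLocalization.map_eq _ x
  letI : Algebra (Pt ψ) Ph := φl.toAlgebra
  letI : Algebra (MvPolynomial (Fin n) A) Ph := ((algebraMap Rh Ph).comp ι).toAlgebra
  haveI : IsScalarTower (MvPolynomial (Fin n) A) (MvPolynomial (Fin n) Ah) Ph :=
    IsScalarTower.of_algebraMap_eq fun _ => rfl
  haveI : IsScalarTower (MvPolynomial (Fin n) A) (Pt ψ) Ph :=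
    IsScalarTower.of_algebraMap_eq fun x => (hφl x).symm
  haveI : Module.Flat (MvPolynomial (Fin n) Ah) Ph := IsLocalization.flat Ph 𝔫.primeCompl
  haveI : Module.Flat (MvPolynomial (Fin n) A) Ph := Module.Flat.trans (MvPolynomial (Fin n) A) (MvPolynomial (Fin n) Ah) Ph
  haveI : Module.Flat (Pt ψ) Ph := (Module.flat_iff_of_isLocalization (Pt ψ) m'.primeCompl Ph).2 inferInstance
  let I : Ideal Ph := (RingHom.ker (loc ψ)).map (algebraMap (Pt ψ) Ph)
  let T := Ph ⧸ I
  let mk : Ph →+* T := Ideal.Quotient.mk I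
  let θh : Rh →+* T := mk.comp (algebraMap Rh Ph)
  haveI : IsNoetherianRing Ph := IsLocalization.isNoetherianRing 𝔫.primeCompl _ inferInstance
  have hIle : I ≤ maximalIdeal Ph := Ideal.map_le_iff_le_comap.2 fun z hz => by
    obtain ⟨y, t, rfl⟩ := IsLocalization.exists_mk'_eq m'.primeCompl z
    have hy : y ∈ m' := (IsLocalization.AtPrime.mk'_mem_maximal_iff (Pt ψ) m' y t).1
      (le_maximalIdeal (RingHom.ker_ne_top (loc ψ)) hz)
    rw [Ideal.mem_comap]
    show φl _ ∈ _
    simp only [φl]
    rw [IsLocalization.map_mk', IsLocalization.AtPrime.mk'_mem_maximal_iff Ph 𝔫]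
    exact hcomap.le hy
  haveI : Nontrivial T := Ideal.Quotient.nontrivial_iff.2
    (ne_top_of_le_ne_top (maximalIdeal.isMaximal Ph).ne_top hIle)
  haveI : IsLocalRing T := IsLocalRing.of_surjective' mk Ideal.Quotient.mk_surjective
  haveI : IsNoetherianRing T := isNoetherianRing_of_surjective Ph T mk Ideal.Quotient.mk_surjective
  obtain ⟨j, hj', hjflat⟩ := exists_flat_lift (Q := Ph) (loc ψ) (loc_surjective ψ hψ)
  have hj : ∀ x : R, j (ψ x) = θh (ι x) := fun x => by
    rw [← loc_algebraMap ψ, hj']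
    exact congrArg mk (hφl x)
  letI : Algebra B T := j.toAlgebra
  haveI : Module.Flat B T := hjflat
  have hθh : ∀ x : Rh, θh x = mk (algebraMap Rh Ph x) := fun _ => RingHom.comp_apply _ _ _
  have hθsurj : LocSurj θh := by
    intro y
    obtain ⟨z, hz⟩ := Ideal.Quotient.mk_surjective (I := I) y
    obtain ⟨x, t, hzx⟩ := IsLocalization.exists_mk'_eq 𝔫.primeCompl z
    have hz' : mk z = y := hz
    refine ⟨x, (t : Rh), ?_, ?_⟩
    · rw [hθh]
      exact (IsLocalization.map_units Ph t).map mk
    · rw [hθh, hθh, ← hz', ← map_mul, ← hzx, mul_comm, IsLocalization.mk'_spec]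
  have hmaxT : (maximalIdeal B).map (algebraMap B T) = maximalIdeal T := by
    refine le_antisymm (Ideal.map_le_iff_le_comap.2 fun b hb => ?_) ?_
    · obtain ⟨x, t, ht, hx⟩ := hψ b
      have h1 : ψ x ∈ maximalIdeal B := hx ▸ Ideal.mul_mem_left _ _ hb
      have h2 : j (ψ x) ∈ maximalIdeal T := by
        rw [hj, ← IsLocalRing.map_maximalIdeal_of_surjective mk Ideal.Quotient.mk_surjective]
        exact Ideal.mem_map_of_mem mk ((IsLocalization.AtPrime.to_map_mem_maximal_iff Ph 𝔫 _).2
          (show ι x ∈ 𝔫 from by rw [← Ideal.mem_comap, ← hcomap]; exact h1))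
      rw [← hx, map_mul] at h2
      exact (Ideal.unit_mul_mem_iff_mem _ (ht.map j)).1 h2
    · rw [← IsLocalRing.map_maximalIdeal_of_surjective mk Ideal.Quotient.mk_surjective,
        ← show 𝔫.map (algebraMap Rh Ph) = maximalIdeal Ph from IsLocalization.AtPrime.map_eq_maximalIdeal 𝔫 Ph, hn, Ideal.map_map, Ideal.map_map,
        Ideal.map_le_iff_le_comap]
      intro x hx
      rw [Ideal.mem_comap]
      show mk (algebraMap Rh Ph (ι x)) ∈ _
      rw [show mk (algebraMap Rh Ph (ι x)) = j (ψ x) from (hj x).symm]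
      exact Ideal.mem_map_of_mem j (show ψ x ∈ maximalIdeal B from hx)
  have hdT : ringKrullDim T = ringKrullDim B := CohenLib.ringKrullDim_eq_of_flat_unramified B T hmaxT
  have hbne : maximalIdeal B ≠ ⊥ := fun h => by
    have h2 := IsLocalRing.maximalIdeal_height_eq_ringKrullDim (R := B)
    rw [h, Ideal.height_bot] at h2
    rw [← h2] at hd
    exact absurd hd (by norm_num)
  obtain ⟨b₀, hb₀, hb0⟩ := Submodule.exists_mem_ne_zero_of_ne_bot hbne
  have hseq : CommAlgDim.HasSeqIn (maximalIdeal T) T 2 := by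
    obtain ⟨rs, hl, hrm, hr⟩ := hasSeqIn_two hb0 hb₀ hd
    refine ⟨rs.map (algebraMap B T), by rw [List.length_map, hl], fun r hr' => ?_, hr.of_flat⟩
    obtain ⟨x, hx, rfl⟩ := List.mem_map.1 hr'
    rw [← hmaxT]
    exact Ideal.mem_map_of_mem _ (hrm x hx)
  have hetT : ∀ (Q : Ideal T) [Q.IsPrime], Q ≠ maximalIdeal T → Et pd θh Q := by
    intro Q _ hQ
    have hq : Q.comap j ≠ maximalIdeal B := fun h => hQ (le_antisymm (le_maximalIdeal Ideal.IsPrime.ne_top') (by
      rw [← hmaxT]
      exact Ideal.map_le_iff_le_comap.2 h.ge))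
    obtain ⟨g, hg, hdet, hgen⟩ := het (Q.comap j) hq
    refine ⟨fun i => ι (g i), fun i => by rw [← hj, hg, map_zero], ?_, fun x hx => ?_⟩
    · rw [show jac pd θh (fun i => ι (g i)) = (jac pd ψ g).map j from Matrix.ext fun i k => by
        show θh (MvPolynomial.pderiv k (MvPolynomial.map (algebraMap A Ah) (g i))) = j (ψ (pd k (g i)))
        rw [MvPolynomial.pderiv_map, hj]
        rfl, ← RingHom.mapMatrix_apply, ← RingHom.map_det]
      exact hdet
    · have hle : I ≤ ((RingHom.ker ψ).map ι).map (algebraMap Rh Ph) := Ideal.map_le_iff_le_comap.2 fun z hz => by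
        obtain ⟨y, t, rfl⟩ := IsLocalization.exists_mk'_eq m'.primeCompl z
        have hy : ψ y = 0 := by
          rw [← loc_algebraMap ψ, ← IsLocalization.mk'_spec (Pt ψ) y t, map_mul, RingHom.mem_ker.1 hz, zero_mul]
        rw [Ideal.mem_comap]
        have h1 : φl (IsLocalization.mk' (Pt ψ) y t) * algebraMap Rh Ph (ι t) = algebraMap Rh Ph (ι y) := by
          rw [← hφl, ← hφl, ← map_mul, IsLocalization.mk'_spec]
        have hu : IsUnit (algebraMap Rh Ph (ι t)) := by
          refine IsLocalization.map_units Ph (⟨_, ?_⟩ : 𝔫.primeCompl)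
          intro h
          exact t.2 (hcomap.ge h)
        refine (Ideal.mul_unit_mem_iff_mem _ hu).1 ?_
        show φl _ * _ ∈ _
        rw [h1]
        exact Ideal.mem_map_of_mem _ (Ideal.mem_map_of_mem ι hy)
      have hx' : algebraMap Rh Ph x ∈ ((RingHom.ker ψ).map ι).map (algebraMap Rh Ph) :=
        hle (Ideal.Quotient.eq_zero_iff_mem.1 hx)
      rw [IsLocalization.algebraMap_mem_map_algebraMap_iff 𝔫.primeCompl] at hx'
      obtain ⟨u, hu, hux⟩ := hx'
      obtain ⟨s, hs⟩ := IsNoetherian.noetherian (RingHom.ker ψ)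
      have hk : ∀ k ∈ s, ψ k = 0 := fun k hk => by
        have : k ∈ RingHom.ker ψ := hs ▸ Submodule.subset_span hk
        exact this
      choose w hw hwk using fun k : s => hgen k (hk k k.2)
      refine ⟨u * ι (∏ k, w k), ?_, ?_⟩
      · rw [map_mul]
        intro h
        rcases Ideal.IsPrime.mem_or_mem ‹_› h with h | h
        · exact Ideal.IsPrime.ne_top' (Ideal.eq_top_of_isUnit_mem Q h
            ((IsLocalization.map_units Ph (⟨u, hu⟩ : 𝔫.primeCompl)).map mk))
        · rw [← hj, ← Ideal.mem_comap, map_prod] at h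
          obtain ⟨k, -, hk⟩ := (Ideal.IsPrime.prod_mem_iff).1 h
          exact hw k hk
      · rw [mul_comm u, mul_assoc]
        have hle2 : (RingHom.ker ψ).map ι ≤
            (Ideal.span (Set.range fun i => ι (g i))).colon {ι (∏ k, w k)} := by
          rw [Ideal.map_le_iff_le_comap, ← hs]
          refine Submodule.span_le.2 fun k hk => ?_
          rw [SetLike.mem_coe, Ideal.mem_comap, Submodule.mem_colon_singleton, smul_eq_mul, mul_comm, ← map_mul,
            show (Set.range fun i => ι (g i)) = ι '' Set.range g from Set.range_comp _ g, ← Ideal.map_span]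
          refine Ideal.mem_map_of_mem ι ?_
          obtain ⟨c, hc⟩ := Finset.dvd_prod_of_mem w (Finset.mem_univ (⟨k, hk⟩ : s))
          rw [hc, mul_comm (w _) c, mul_assoc]
          exact Ideal.mul_mem_left _ _ (hwk ⟨k, hk⟩)
        have h2 := Submodule.mem_colon_singleton.1 (hle2 hux)
        rwa [smul_eq_mul, mul_comm] at h2
  obtain ⟨hdom, hic⟩ := normal_of_punctured_regular T hseq (hdT ▸ hd) fun Q _ hQ => by
    haveI := isRegularRing_mvPolynomial (A := Ah) (n := n)
    exact (et_regular θh Q pd hθsurj (hetT Q hQ)).1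
  haveI := hdom
  haveI := hic
  have hmT : (maximalIdeal T).comap (θh.comp MvPolynomial.C) = maximalIdeal Ah := by
    haveI : ((maximalIdeal T).comap (θh.comp MvPolynomial.C)).IsPrime := Ideal.comap_isPrime _ _
    refine le_antisymm (le_maximalIdeal Ideal.IsPrime.ne_top') ?_
    rw [← hmh, Ideal.map_le_iff_le_comap]
    intro a ha
    show mk (algebraMap Rh Ph (MvPolynomial.C (algebraMap A Ah a))) ∈ maximalIdeal T
    rw [show MvPolynomial.C (algebraMap A Ah a) = ι (MvPolynomial.C a) from (MvPolynomial.map_C _ _).symm,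
      show mk (algebraMap Rh Ph (ι (MvPolynomial.C a))) = j (ψ (MvPolynomial.C a)) from (hj _).symm, ← hmaxT]
    rw [← hm] at ha
    exact Ideal.mem_map_of_mem j ha
  obtain ⟨d, hdd⟩ := CommAlgDim.exists_ringKrullDim_eq (R := T)
  have hd2 : 2 ≤ d := by
    rw [← hdT, hdd] at hd
    norm_cast at hd
  obtain ⟨hdim, hint⟩ := key d Ah T n θh hθsurj hmT hdd hd2 hetT
  refine ⟨?_, fun y => ?_⟩
  · rw [← hdT, hdim]
    exact CohenLib.ringKrullDim_eq_of_flat_unramified A Ah hmh
  · obtain ⟨H₀, hH₀m, hH₀⟩ := hint (j y)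
    have hres' : Function.Surjective ((residue Ah).comp (algebraMap A Ah)) := fun b => by
      obtain ⟨b, rfl⟩ := residue_surjective b
      obtain ⟨a, ha⟩ := hres b
      exact ⟨a, (sub_eq_zero.1 (by rw [RingHom.comp_apply, ← map_sub]; exact (residue_eq_zero_iff _).2 ha)).symm⟩
    obtain ⟨H, hH, -, hHm⟩ := Polynomial.lifts_and_degree_eq_and_monic
      (Polynomial.mem_lifts_of_surjective hres' (H₀.map (residue Ah))) (hH₀m.map _)
    refine ⟨H, hHm, ?_⟩
    let τ : ResidueField Ah →+* ResidueField T := Ideal.Quotient.lift (maximalIdeal Ah)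
      ((residue T).comp (θh.comp MvPolynomial.C)) fun a ha => by
        rw [← hmT] at ha
        exact (residue_eq_zero_iff _).2 ha
    have hτ : (residue T).comp (θh.comp MvPolynomial.C) = τ.comp (residue Ah) := rfl
    have h1 : (H.map (algebraMap A Ah)).eval₂ (θh.comp MvPolynomial.C) (j y) ∈ maximalIdeal T := by
      rw [← residue_eq_zero_iff, Polynomial.hom_eval₂] at hH₀ ⊢
      rwa [hτ, ← Polynomial.eval₂_map, Polynomial.map_map, hH, Polynomial.eval₂_map]
    rw [Polynomial.eval₂_map,
      show (θh.comp MvPolynomial.C).comp (algebraMap A Ah) = j.comp (ψ.comp MvPolynomial.C) from RingHom.ext fun a => by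
        show θh (MvPolynomial.C (algebraMap A Ah a)) = j (ψ (MvPolynomial.C a))
        rw [hj, show ι (MvPolynomial.C a) = MvPolynomial.C (algebraMap A Ah a) from MvPolynomial.map_C _ _],
      ← Polynomial.hom_eval₂] at h1
    by_contra hu
    exact (mem_maximalIdeal _).1 h1 ((notMem_maximalIdeal.1 hu).map j)

end PurityRamLib
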