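import Mathlib
import Groth.Agent.NormalLib.Serre
import Groth.Agent.NormalLib.NormalRing
import Groth.Agent.NormalLib.Regular
import Groth.Agent.CohenLib.Normalization
import Groth.Agent.LiaisonLib.Basic
import Groth.Agent.SMTLib.S2Height

/-! # Hyperplane sections of normal local domains and their normalisations -/

set_option autoImplicit false
noncomputable section
universe u

open IsLocalRing
open scoped nonZeroDivisors

namespace PurityRamLib

section Cut

variable {B : Type u} [CommRing B] [IsDomain B] [IsNoetherianRing B] [IsLocalRing B]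
  [IsIntegrallyClosed B]

theorem maximal_notMem_ass {b : B} (hb : b ≠ 0) (hd : (2 : WithBot ℕ∞) ≤ ringKrullDim B) :
    maximalIdeal B ∉ associatedPrimes B (B ⧸ Ideal.span {b}) := fun h => by
  have h1 := NormalLib.height_eq_one_of_mem_associatedPrimes hb h
  rw [← IsLocalRing.maximalIdeal_height_eq_ringKrullDim, h1] at hd
  exact absurd (WithBot.coe_le_coe.1 hd) (by norm_num)

theorem hasSeqIn_two {b : B} (hb : b ≠ 0) (hbm : b ∈ maximalIdeal B) (hd : (2 : WithBot ℕ∞) ≤ ringKrullDim B) :
    CommAlgDim.HasSeqIn (maximalIdeal B) B 2 := by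
  refine CommAlgDim.hasSeqIn_succ_of_cons hbm
    (IsSMulRegular.of_right_eq_zero_of_smul fun z hz => by
      rw [smul_eq_mul] at hz
      exact (mul_eq_zero.1 hz).resolve_left hb) ((CommAlgDim.hasSeqIn_one_iff _).2 fun P hP hle => ?_)
  have hPm : P = maximalIdeal B := le_antisymm (le_maximalIdeal hP.isPrime.ne_top) hle
  rw [← LinearEquiv.AssociatedPrimes.eq (SMTLib.quotSpanEquiv b), hPm] at hP
  exact maximal_notMem_ass hb hd hP

/-- Reducedness and regularity of a section. -/
theorem cut_props {b : B} (hb : b ≠ 0) (hbm : b ∈ maximalIdeal B) (hd : (2 : WithBot ℕ∞) ≤ ringKrullDim B)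
    (hreg : ∀ (Q : Ideal B) [Q.IsPrime], b ∈ Q → Q ≠ maximalIdeal B →
      IsRegularLocalRing (Localization.AtPrime Q ⧸ Ideal.span {algebraMap B (Localization.AtPrime Q) b})) :
    IsReduced (B ⧸ Ideal.span {b}) ∧ ∀ (p : Ideal (B ⧸ Ideal.span {b})) [p.IsPrime],
      ¬ p.IsMaximal → IsRegularLocalRing (Localization.AtPrime p) := by
  classical
  set π := Ideal.Quotient.mk (Ideal.span {b}) with hπ
  have hregC : ∀ (p : Ideal (B ⧸ Ideal.span {b})) [p.IsPrime],
      ¬ p.IsMaximal → IsRegularLocalRing (Localization.AtPrime p) := by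
    intro p _ hp
    let Q := p.comap π
    have hbQ : b ∈ Q := by
      show Ideal.Quotient.mk (Ideal.span {b}) b ∈ p
      rw [Ideal.Quotient.eq_zero_iff_mem.2 (Ideal.mem_span_singleton_self b)]
      exact zero_mem _
    have hQ : Q ≠ maximalIdeal B := fun h => hp (by
      rw [← Ideal.map_comap_of_surjective π Ideal.Quotient.mk_surjective p,
        show p.comap π = maximalIdeal B from h]
      refine Ideal.IsMaximal.map_of_surjective_of_ker_le Ideal.Quotient.mk_surjective ?_
      rw [Ideal.mk_ker, Ideal.span_singleton_le_iff_mem]; exact hbm)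
    obtain ⟨hp', ⟨e⟩⟩ := LiaisonLib.exists_quot_equiv (M := Q) ((Ideal.span_singleton_le_iff_mem _).2 hbQ)
    haveI := hreg Q hbQ hQ
    have h : IsRegularLocalRing (Localization.AtPrime (Q.map π)) :=
      IsRegularLocalRing.of_ringEquiv ((Ideal.quotEquivOfEq (by rw [Ideal.map_span, Set.image_singleton])).trans e)
    revert h
    have hQp : Q.map π = p := Ideal.map_comap_of_surjective π Ideal.Quotient.mk_surjective p
    generalize Q.map π = q at hp' hQp
    subst hQp
    exact id
  refine ⟨⟨fun z hz => ?_⟩, hregC⟩
  by_contra hz0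
  obtain ⟨P, hP, hle⟩ := exists_le_isAssociatedPrime_of_isNoetherianRing (B ⧸ Ideal.span {b}) _ hz0
  haveI := hP.isPrime
  by_cases hPm : P.IsMaximal
  · obtain ⟨-, y, hy⟩ := isAssociatedPrime_iff.1 hP
    refine maximal_notMem_ass hb hd (AssociatedPrimes.mem_iff.2 (isAssociatedPrime_iff.2
      ⟨inferInstance, y, ?_⟩))
    haveI := Ideal.comap_isMaximal_of_surjective π Ideal.Quotient.mk_surjective (K := P)
    rw [← IsLocalRing.eq_maximalIdeal (I := P.comap π) inferInstance]
    ext t
    rw [Ideal.mem_comap, hy, Submodule.mem_colon_singleton, Submodule.mem_colon_singleton,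
      Submodule.mem_bot, Submodule.mem_bot]
    rfl
  · haveI := hregC P hPm
    haveI := CommAlgDim.isDomain_of_isRegularLocalRing (Localization.AtPrime P)
    have h0 : algebraMap _ (Localization.AtPrime P) z = 0 :=
      IsReduced.eq_zero _ (hz.map (algebraMap _ (Localization.AtPrime P)))
    obtain ⟨t, ht⟩ := (IsLocalization.map_eq_zero_iff P.primeCompl _ _).1 h0
    refine t.2 (hle ?_)
    rw [Submodule.mem_colon_singleton, Submodule.mem_bot, smul_eq_mul]
    exact ht

end Cut

section Norm

variable (C : Type u) [CommRing C] [IsReduced C]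

theorem mem_nonZeroDivisors_of_forall_minimal {x : C} (h : ∀ p ∈ minimalPrimes C, x ∉ p) : x ∈ C⁰ := by
  rw [mem_nonZeroDivisors_iff_right]
  intro y hy
  refine IsReduced.eq_zero _ (mem_nilradical.1 ?_)
  rw [nilradical, ← Ideal.sInf_minimalPrimes, Submodule.mem_sInf]
  intro p hp
  exact (hp.1.1.mem_or_mem (hy ▸ p.zero_mem)).resolve_right (h p hp)

/-- The normalisation in the total ring of fractions is normal. -/
theorem locNormal_normalisation [IsNoetherianRing C] [Module.Finite C (integralClosure C (FractionRing C))] :
    NormalLib.LocNormal (integralClosure C (FractionRing C)) := by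
  let F := FractionRing C
  let K := integralClosure C F
  haveI : IsReduced F := isReduced_localizationPreserves C⁰ F ‹IsReduced C›
  haveI : IsReduced K := isReduced_of_injective K.val Subtype.val_injective
  haveI : IsNoetherianRing K := IsNoetherianRing.of_finite C K
  have hinjC : Function.Injective (algebraMap C F) := IsLocalization.injective F le_rfl
  haveI : IsLocalization K⁰ F :=
    { map_units := fun k => by
        obtain ⟨⟨c, s⟩, hcs⟩ := IsLocalization.surj C⁰ ((k : K) : F)
        have hc : c ∈ C⁰ := by
          rw [mem_nonZeroDivisors_iff_right]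
          intro y hy
          have h1 : ((algebraMap C K y) * (k : K)) * algebraMap C K (s : C) = 0 := Subtype.ext (by
            show algebraMap C F y * ((k : K) : F) * algebraMap C F (s : C) = 0
            rw [mul_assoc, hcs, ← map_mul, hy, map_zero])
          have h2 : IsUnit (algebraMap C F (s : C)) := IsLocalization.map_units F s
          have h3 : algebraMap C K y * (k : K) = 0 := Subtype.ext (by
            have := congrArg Subtype.val h1
            exact h2.mul_left_eq_zero.1 this)
          have h4 := (mem_nonZeroDivisors_iff_right.1 k.2) _ h3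
          exact hinjC ((congrArg Subtype.val h4).trans (map_zero _).symm)
        have hu : IsUnit (((k : K) : F) * algebraMap C F (s : C)) := hcs ▸ IsLocalization.map_units F ⟨c, hc⟩
        exact isUnit_of_mul_isUnit_left hu
      surj := fun z => by
        obtain ⟨⟨c, s⟩, hcs⟩ := IsLocalization.surj C⁰ z
        have hs : algebraMap C K s ∈ K⁰ := by
          rw [mem_nonZeroDivisors_iff_right]
          intro y hy
          exact Subtype.ext ((IsLocalization.map_units F s).mul_left_eq_zero.1 (congrArg Subtype.val hy))
        exact ⟨(algebraMap C K c, ⟨_, hs⟩), hcs⟩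
      exists_of_eq := fun {x y} h => ⟨1, by rw [Subtype.ext h]⟩ }
  refine NormalLib.locNormal_of_isIntegrallyClosedIn (minimalPrimes.finite_of_isNoetherianRing K) F
    fun x hx => ?_
  exact ⟨⟨x, isIntegral_trans x hx⟩, rfl⟩

theorem isRegularLocalRing_normalisation [IsNoetherianRing C] [Module.Finite C (integralClosure C (FractionRing C))]
    (hd : ringKrullDim C ≤ 1) (M : Ideal (integralClosure C (FractionRing C))) [M.IsPrime] :
    IsRegularLocalRing (Localization.AtPrime M) := by
  let K := integralClosure C (FractionRing C)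
  haveI : IsNoetherianRing K := IsNoetherianRing.of_finite C K
  obtain ⟨hdom, hic⟩ := locNormal_normalisation C M
  haveI := hdom
  haveI := hic
  haveI : IsNoetherianRing (Localization.AtPrime M) := IsLocalization.isNoetherianRing M.primeCompl _ inferInstance
  have h1 : ringKrullDim (Localization.AtPrime M) ≤ 1 := by
    rw [IsLocalization.AtPrime.ringKrullDim_eq_height M (Localization.AtPrime M)]
    exact (Ideal.height_le_ringKrullDim_of_ne_top Ideal.IsPrime.ne_top').trans
      ((CohenLib.ringKrullDim_le_of_isIntegral C K).trans hd)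
  haveI : Ring.KrullDimLE 1 (Localization.AtPrime M) := Ring.krullDimLE_iff.2 h1
  haveI : Ring.DimensionLEOne (Localization.AtPrime M) :=
    ⟨fun {p} hp hp' => Ring.krullDimLE_one_iff_of_isPrime_bot.1 inferInstance p hp hp'⟩
  haveI : IsDedekindDomain (Localization.AtPrime M) := { }
  exact IsRegularLocalRing.of_isRegularRing_of_isLocalRing _

end Norm

end PurityRamLib
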