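import Groth.Agent.PurityRamLib.LocalGood

/-! # Descending the trace element along a finite birational extension -/

set_option autoImplicit false
noncomputable section
universe u

open IsLocalRing Polynomial
open scoped nonZeroDivisors

namespace PurityRamLib

variable {R : Type u} [CommRing R] {K : Type u} [CommRing K] {N : ℕ}

theorem good_of_surjective [IsRegularRing R] [IsReduced K] (D : Fin N → Derivation ℤ R R) (θ : R →+* K)
    (hθ : Function.Surjective θ) (f : Fin N → R) (hf : ∀ i, θ (f i) = 0) (hgen : Gen θ f)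
    (hK : ∀ (M : Ideal K) [M.IsMaximal], IsRegularLocalRing (Localization.AtPrime M))
    (hΔ : (jac D θ f).det ∈ K⁰) : Good D θ f := by
  let J : Ideal K :=
    { carrier := {u | ∃ v : R, (∀ x, θ x = 0 → v * x ∈ Ideal.span (Set.range f)) ∧
        θ v = (jac D θ f).det * u}
      zero_mem' := ⟨0, fun x _ => by simp, by simp⟩
      add_mem' := by
        rintro a b ⟨v, hv, hva⟩ ⟨v', hv', hvb⟩
        exact ⟨v + v', fun x hx => by rw [add_mul]; exact add_mem (hv x hx) (hv' x hx),
          by rw [map_add, hva, hvb, mul_add]⟩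
      smul_mem' := by
        rintro c a ⟨v, hv, hva⟩
        obtain ⟨c, rfl⟩ := hθ c
        exact ⟨c * v, fun x hx => by rw [mul_assoc]; exact Ideal.mul_mem_left _ _ (hv x hx),
          by rw [map_mul, hva, smul_eq_mul]; ring⟩ }
  have hJ : J = ⊤ := by
    by_contra hne
    obtain ⟨M, hM, hJM⟩ := Ideal.exists_le_maximal J hne
    haveI := hK M
    obtain ⟨v, w, hw, hv, hvw⟩ := exists_local_good D θ hθ f hf hgen M
      fun p hp h => Set.disjoint_left.1 (Ideal.disjoint_nonZeroDivisors_of_mem_minimalPrimes hp) h hΔ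
    exact hw (hJM ⟨v, hv, hvw⟩)
  intro u
  exact (hJ.ge Submodule.mem_top : u ∈ J)

/-- A derivation acting on coefficients. -/
def coefDer (D : Derivation ℤ R R) : Derivation ℤ R[X] R[X] :=
  PolynomialModule.equivPolynomialSelf.compDer D.mapCoeffs

theorem coefDer_C (D : Derivation ℤ R R) (x : R) : coefDer D (C x) = C (D x) := by
  simp [coefDer]

theorem coeff_mem_of_mem_span (I : Ideal R) {h : R[X]} (hm : h.Monic) {y : R[X]}
    (hy : y ∈ Ideal.span {h} ⊔ I.map C) (k : ℕ) : (y %ₘ h).coeff k ∈ I := by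
  obtain ⟨a, ha, z, hz, rfl⟩ := Submodule.mem_sup.1 hy
  obtain ⟨a, rfl⟩ := Ideal.mem_span_singleton.1 ha
  rw [add_modByMonic, (modByMonic_eq_zero_iff_dvd hm).2 (dvd_mul_right h a), zero_add,
    ← Ideal.Quotient.eq_zero_iff_mem, ← coeff_map, map_modByMonic _ hm]
  have : z.map (Ideal.Quotient.mk I) = 0 := by
    refine Polynomial.ext fun n => ?_
    rw [coeff_map, coeff_zero, Ideal.Quotient.eq_zero_iff_mem]
    exact (Ideal.mem_map_C_iff.1 hz) n
  rw [this, zero_modByMonic, coeff_zero]

theorem span_range_cons {S : Type*} [CommRing S] {n : ℕ} (a : S) (g : Fin n → S) :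
    Ideal.span (Set.range (Fin.cons a g : Fin (n + 1) → S)) = Ideal.span {a} ⊔ Ideal.span (Set.range g) := by
  rw [Fin.range_cons, Ideal.span_insert]

section Step

variable (D : Fin N → Derivation ℤ R R) (θ : R →+* K) (f : Fin N → R) (b : K)

/-- The enlarged list of derivations. -/
def stepD : Fin (N + 1) → Derivation ℤ R[X] R[X] :=
  Fin.cons ((Polynomial.derivative' : Derivation R R[X] R[X]).restrictScalars ℤ) fun j => coefDer (D j)

/-- The enlarged list of equations. -/
def stepF (h : R[X]) : Fin (N + 1) → R[X] := Fin.cons h fun i => C (f i)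

theorem stepD_zero (x : R[X]) : stepD D 0 x = derivative x := rfl

theorem stepD_succ_C (j : Fin N) (x : R) : stepD D j.succ (C x) = C (D j x) := coefDer_C (D j) x

theorem det_step (h : R[X]) :
    (jac (stepD D) (eval₂RingHom θ b) (stepF f h)).det = eval₂ θ b (derivative h) * (jac D θ f).det := by
  rw [Matrix.det_succ_column_zero, Fin.sum_univ_succ, Finset.sum_eq_zero, add_zero]
  · simp only [Fin.val_zero, pow_zero, one_mul, jac_apply, stepD_zero, stepF, Fin.cons_zero,
      Fin.succAbove_zero]
    congr 2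
    refine Matrix.ext fun i j => ?_
    show eval₂RingHom θ b (stepD D j.succ (C (f i))) = θ (D j (f i))
    rw [stepD_succ_C]
    simp
  · intro i _
    rw [show jac (stepD D) (eval₂RingHom θ b) (stepF f h) i.succ 0 = 0 from ?_, mul_zero, zero_mul]
    show eval₂RingHom θ b (stepD D 0 (C (f i))) = 0
    rw [stepD_zero, derivative_C, map_zero]

theorem span_stepF (h : R[X]) :
    Ideal.span (Set.range (stepF f h)) = Ideal.span {h} ⊔ (Ideal.span (Set.range f)).map C := by
  rw [stepF, span_range_cons, Ideal.map_span, ← Set.range_comp]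
  rfl

theorem exists_const (s r : R) (x : R[X]) :
    ∃ m : ℕ, ∃ (α : R[X]) (c : R), C (s ^ m) * x = α * (C s * X - C r) + C c := by
  induction x using Polynomial.induction_on' with
  | add p q hp hq =>
    obtain ⟨m, α, c, hp⟩ := hp
    obtain ⟨m', α', c', hq⟩ := hq
    refine ⟨m + m', C (s ^ m') * α + C (s ^ m) * α', s ^ m' * c + s ^ m * c', ?_⟩
    simp only [pow_add, map_mul, map_add] at *
    linear_combination C (s ^ m') * hp + C (s ^ m) * hq
  | monomial n a =>
    obtain ⟨k, hk⟩ := sub_dvd_pow_sub_pow (C s * X : R[X]) (C r) n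
    refine ⟨n, C a * k, a * r ^ n, ?_⟩
    rw [← C_mul_X_pow_eq_monomial, map_mul, map_pow, map_pow]
    linear_combination C a * hk

theorem gen_step (hgen : Gen θ f) {s r : R} (hs : θ s ∈ K⁰) (hsr : θ s * b = θ r) {H : R[X]}
    (hH : eval₂ θ b H = 0) :
    Gen (eval₂RingHom θ b) (stepF f (H ^ 2 + (C s * X - C r))) := by
  classical
  intro p hp
  haveI := hp.1.1
  have hsp : θ s ∉ p := fun h =>
    Set.disjoint_left.1 (Ideal.disjoint_nonZeroDivisors_of_mem_minimalPrimes hp) h hs
  set θ' := eval₂RingHom θ b with hθ'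
  set e : R[X] := C s * X - C r with he
  set G' := Ideal.span (Set.range (stepF f (H ^ 2 + e))) with hG'
  let W : Ideal R[X] :=
    { carrier := {x | ∃ w, θ' w ∉ p ∧ w * x ∈ G'}
      zero_mem' := ⟨1, by rw [map_one]; exact fun h => hp.1.1.ne_top ((Ideal.eq_top_iff_one p).2 h), by simp⟩
      add_mem' := by
        rintro a c ⟨w, hw, hwa⟩ ⟨w', hw', hwc⟩
        refine ⟨w * w', by rw [map_mul]; exact fun h => (hp.1.1.mem_or_mem h).elim hw hw', ?_⟩
        rw [show w * w' * (a + c) = w' * (w * a) + w * (w' * c) by ring]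
        exact add_mem (Ideal.mul_mem_left _ _ hwa) (Ideal.mul_mem_left _ _ hwc)
      smul_mem' := by
        rintro c a ⟨w, hw, hwa⟩
        refine ⟨w, hw, ?_⟩
        rw [smul_eq_mul, mul_left_comm]
        exact Ideal.mul_mem_left _ _ hwa }
  have hsat : ∀ (w x : R[X]), θ' w ∉ p → w * x ∈ W → x ∈ W := by
    rintro w x hw ⟨w', hw', h⟩
    refine ⟨w' * w, ?_, by rwa [mul_assoc]⟩
    rw [map_mul]
    exact fun h => (hp.1.1.mem_or_mem h).elim hw' hw
  have hC : ∀ c, θ c = 0 → C c ∈ W := fun c hc => by
    obtain ⟨w, hw, hwc⟩ := hgen p hp c hc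
    refine ⟨C w, by simpa [θ'] using hw, ?_⟩
    rw [← map_mul, hG', span_stepF]
    exact Ideal.mem_sup_right (Ideal.mem_map_of_mem C hwc)
  have he0 : θ' e = 0 := by simp [θ', e, hsr]
  have hconst : ∀ (m : ℕ) (α : R[X]) (c : R) (x : R[X]), θ' x = 0 → C (s ^ m) * x = α * e + C c →
      θ c = 0 := fun m α c x hx h => by
    have := congrArg θ' h
    rw [map_mul, map_add, map_mul θ' α, hx, he0, mul_zero, mul_zero, zero_add] at this
    simpa [θ'] using this.symm
  have hspow : ∀ m : ℕ, θ' (C (s ^ m)) ∉ p := fun m => by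
    simpa [θ', eval₂_pow] using fun h => hsp (hp.1.1.mem_of_pow_mem m h)
  have heW : e ∈ W := by
    obtain ⟨m, α, c, hm⟩ := exists_const s r H
    have hc := hC c (hconst m α c H (by simpa [θ'] using hH) hm)
    have hh : H ^ 2 + e ∈ W := ⟨1, by rw [map_one]; exact fun h => hp.1.1.ne_top ((Ideal.eq_top_iff_one p).2 h),
      by rw [one_mul]; exact Ideal.subset_span ⟨0, by simp [stepF]⟩⟩
    refine hsat (C (s ^ m) ^ 2 + α ^ 2 * e) _ ?_ ?_
    · rw [map_add, map_mul, he0, mul_zero, add_zero, map_pow]
      exact fun h => hspow m (hp.1.1.mem_of_pow_mem 2 h)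
    · have : (C (s ^ m) ^ 2 + α ^ 2 * e) * e =
          C (s ^ m) ^ 2 * (H ^ 2 + e) - (2 * α * e + C c) * C c := by
        linear_combination -(C (s ^ m) * H + α * e + C c) * hm
      rw [this]
      exact sub_mem (Ideal.mul_mem_left _ _ hh) (Ideal.mul_mem_left _ _ hc)
  intro x hx
  obtain ⟨m, α, c, hm⟩ := exists_const s r x
  have : C (s ^ m) * x ∈ W := by
    rw [hm]
    exact add_mem (Ideal.mul_mem_left _ _ heW) (hC c (hconst m α c x hx hm))
  exact hsat _ _ (hspow m) this

theorem good_step [Nontrivial K] {s r : R} (hs : θ s ∈ K⁰) (hsr : θ s * b = θ r) {h : R[X]}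
    (hh : h.Monic) (hroot : eval₂ θ b h = 0) (hder : eval₂ θ b (derivative h) = θ s)
    (hdeg : 1 ≤ h.natDegree) (hf : ∀ i, θ (f i) = 0)
    (hgood : Good (stepD D) (eval₂RingHom θ b) (stepF f h)) : Good D θ f := by
  intro u
  obtain ⟨v, hv, hvu⟩ := hgood u
  rw [det_step, hder] at hvu
  set m := h.natDegree
  refine ⟨(v %ₘ h).coeff (m - 1), fun x hx => ?_, ?_⟩
  · have h1 := hv (C x) (by simp [hx])
    rw [span_stepF] at h1
    have h2 := coeff_mem_of_mem_span _ hh h1 (m - 1)
    rwa [mul_comm v, C_mul', smul_modByMonic, coeff_smul, smul_eq_mul, mul_comm] at h2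
  · set e : K[X] := C (θ s) * X - C (θ r) with he
    set w := (v %ₘ h).map θ with hw
    set hb := h.map θ with hhb
    have hmb : hb.Monic := hh.map θ
    have hdb : hb.natDegree = m := hh.natDegree_map θ
    have h1 : v * (C s * X - C r) ∈ Ideal.span (Set.range (stepF f h)) :=
      hv _ (by simp [hsr])
    rw [span_stepF] at h1
    obtain ⟨a, ha, z, hz, haz⟩ := Submodule.mem_sup.1 h1
    obtain ⟨a, rfl⟩ := Ideal.mem_span_singleton.1 ha
    have hz0 : z.map θ = 0 := Polynomial.ext fun n => by
      rw [coeff_map, coeff_zero]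
      have hle : Ideal.span (Set.range f) ≤ RingHom.ker θ := by
        rw [Ideal.span_le]; rintro _ ⟨i, rfl⟩; exact hf i
      exact hle (Ideal.mem_map_C_iff.1 hz n)
    have hdvd : hb ∣ w * e := by
      refine ⟨a.map θ - (v /ₘ h).map θ * e, ?_⟩
      have h2 := congrArg (Polynomial.map θ) haz
      simp only [Polynomial.map_add, Polynomial.map_mul, hz0, add_zero, Polynomial.map_sub, map_C,
        map_X] at h2
      have h3 := congrArg (Polynomial.map θ) (modByMonic_add_div v h)
      simp only [Polynomial.map_add, Polynomial.map_mul] at h3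
      rw [← hw] at h3
      linear_combination -h2 + e * h3
    obtain ⟨q, hq⟩ := hdvd
    have hwlt : w.natDegree < m :=
      natDegree_map_le.trans_lt (natDegree_modByMonic_lt v hh fun h1 => by
        have : m = 0 := by simp only [m, h1, natDegree_one]
        omega)
    have hq0 : q.natDegree = 0 := by
      by_contra hne
      have hqne : q ≠ 0 := fun h => hne (by rw [h, natDegree_zero])
      have h2 : (w * e).natDegree ≤ m := by
        refine (natDegree_mul_le).trans ?_
        have : e.natDegree ≤ 1 := by rw [he]; compute_degree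
        omega
      rw [hq, hmb.natDegree_mul' hqne, hdb] at h2
      omega
    obtain ⟨c, rfl⟩ := natDegree_eq_zero.1 hq0
    have hc : c = θ s * w.coeff (m - 1) := by
      have h2 := congrArg (fun q => q.coeff m) hq
      simp only [he, mul_sub, coeff_sub, coeff_mul_C] at h2
      rw [show w * (C (θ s) * X) = w * C (θ s) * X by ring,
        show m = m - 1 + 1 by omega, coeff_mul_X, coeff_mul_C,
        coeff_eq_zero_of_natDegree_lt (show w.natDegree < m - 1 + 1 by omega), zero_mul, sub_zero,
        show m - 1 + 1 = hb.natDegree by omega, hmb.coeff_natDegree, one_mul] at h2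
      rw [← h2, mul_comm]
    have hwb : w.eval b = eval₂RingHom θ b v := by
      rw [hw, eval_map, coe_eval₂RingHom]
      conv_rhs => rw [← modByMonic_add_div v h]
      rw [eval₂_add, eval₂_mul, hroot, zero_mul, add_zero]
    have heb : e.eval b = 0 := by simp [he, hsr]
    have h4 := congrArg (fun q => (derivative q).eval b) hq
    simp only [derivative_mul, derivative_C, mul_zero, add_zero, eval_add, eval_mul, eval_C, heb,
      hhb, derivative_map, eval_map, hder] at h4
    rw [show (derivative e).eval b = θ s by simp [he], mul_comm (θ s) c, zero_add] at h4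
    have h5 : w.eval b = c := (mul_cancel_right_mem_nonZeroDivisors hs).1 h4
    rw [hwb, hvu, hc, hw, coeff_map, mul_assoc] at h5
    exact ((mul_cancel_left_mem_nonZeroDivisors hs).1 h5).symm

end Step

theorem good_descend [IsReduced K] [Nontrivial K]
    (hK : ∀ (M : Ideal K) [M.IsMaximal], IsRegularLocalRing (Localization.AtPrime M)) :
    ∀ (bs : List K) (R : Type u) [CommRing R] [IsRegularRing R] (N : ℕ)
      (D : Fin N → Derivation ℤ R R) (θ : R →+* K) (f : Fin N → R),
      (∀ i, θ (f i) = 0) → Gen θ f → (jac D θ f).det ∈ K⁰ →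
      (∀ b ∈ bs, ∃ s r : R, θ s ∈ K⁰ ∧ θ s * b = θ r) →
      (∀ b ∈ bs, ∃ H : R[X], H.Monic ∧ eval₂ θ b H = 0) →
      Subring.closure (Set.range θ ∪ {b | b ∈ bs}) = ⊤ → Good D θ f := by
  intro bs
  induction bs with
  | nil =>
    intro R _ _ N D θ f hf hgen hΔ _ _ hcl
    refine good_of_surjective D θ (fun y => ?_) f hf hgen hK hΔ
    have : Subring.closure (Set.range θ ∪ {b | b ∈ ([] : List K)}) ≤ θ.range :=
      Subring.closure_le.2 (by simp [RingHom.coe_range])
    exact RingHom.mem_range.1 (this (hcl.ge trivial))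
  | cons b bs ih =>
    intro R _ _ N D θ f hf hgen hΔ hfrac hint hcl
    obtain ⟨s, r, hs, hsr⟩ := hfrac b List.mem_cons_self
    obtain ⟨H₀, hH₀m, hH₀⟩ := hint b List.mem_cons_self
    haveI : Nontrivial R := θ.domain_nontrivial
    let H := H₀ * X
    have hHm : H.Monic := hH₀m.mul monic_X
    have hH : eval₂ θ b H = 0 := by simp [H, hH₀]
    have hHd : 1 ≤ H.natDegree := by
      rw [hH₀m.natDegree_mul monic_X, natDegree_X]; omega
    let h := H ^ 2 + (C s * X - C r)
    have hdeglt : (C s * X - C r).degree < (H ^ 2).degree := by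
      refine lt_of_le_of_lt (b := (1 : WithBot ℕ)) (by compute_degree) ?_
      rw [degree_eq_natDegree (hHm.pow 2).ne_zero, hHm.natDegree_pow]
      exact_mod_cast (show 1 < 2 * H.natDegree by omega)
    have hhm : h.Monic := (hHm.pow 2).add_of_left hdeglt
    have hhd : 1 ≤ h.natDegree := by
      show 1 ≤ (H ^ 2 + (C s * X - C r)).natDegree
      rw [natDegree_add_eq_left_of_degree_lt hdeglt, hHm.natDegree_pow]; omega
    have hroot : eval₂ θ b h = 0 := by simp [h, eval₂_pow, hH, hsr]
    have hder : eval₂ θ b (derivative h) = θ s := by simp [h, derivative_pow, eval₂_pow, hH]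
    refine good_step D θ f b hs hsr hhm hroot hder hhd hf
      (ih R[X] (N + 1) (stepD D) (eval₂RingHom θ b) (stepF f h) ?_ (gen_step θ f b hgen hs hsr hH) ?_ ?_ ?_ ?_)
    · intro i
      induction i using Fin.cases with
      | zero => simpa [stepF] using hroot
      | succ i => simp [stepF, hf]
    · rw [det_step, hder]
      exact mul_mem hs hΔ
    · intro c hc
      obtain ⟨s', r', hs', hsr'⟩ := hfrac c (List.mem_cons_of_mem _ hc)
      exact ⟨C s', C r', by simpa using hs', by simpa using hsr'⟩
    · intro c hc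
      obtain ⟨H', hH'm, hH'⟩ := hint c (List.mem_cons_of_mem _ hc)
      refine ⟨H'.map C, hH'm.map C, ?_⟩
      rw [eval₂_map, show (eval₂RingHom θ b).comp C = θ from RingHom.ext fun x => by simp]
      exact hH'
    · rw [eq_top_iff, ← hcl, Subring.closure_le]
      rintro y (⟨x, rfl⟩ | hy)
      · exact Subring.subset_closure (Or.inl ⟨C x, by simp⟩)
      · rcases List.mem_cons.1 hy with rfl | hy
        · exact Subring.subset_closure (Or.inl ⟨X, by simp⟩)
        · exact Subring.subset_closure (Or.inr hy)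

end PurityRamLib
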