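import Groth.Agent.PurityRamLib.Avoid
import Groth.Agent.PurityRamLib.Tower
import Groth.Agent.PurityRamLib.Cut
import Groth.Agent.GorLib.MCM
import Groth.Agent.KRLib.Model
import Groth.Agent.KoszDetLib.Cone

/-! # Two-dimensional normal points which are étale on the punctured spectrum -/

set_option autoImplicit false
set_option maxHeartbeats 1000000
noncomputable section
universe u

open IsLocalRing RingTheory.Sequence
open scoped nonZeroDivisors

namespace PurityRamLib

variable {P B : Type u} [CommRing P] [CommRing B] {n : ℕ}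

/-- A derivation killing `a` descends to the quotient by `a`. -/
def descDer (D : Derivation ℤ P P) (a : P) (h : D a = 0) :
    Derivation ℤ (P ⧸ Ideal.span {a}) (P ⧸ Ideal.span {a}) :=
  NagataLib.mkDer
    (QuotientAddGroup.lift (Ideal.span {a}).toAddSubgroup
      ((Ideal.Quotient.mk (Ideal.span {a})).toAddMonoidHom.comp D.toLinearMap.toAddMonoidHom)
      (fun x hx => by
        obtain ⟨c, rfl⟩ := Ideal.mem_span_singleton.1 hx
        show Ideal.Quotient.mk _ (D (a * c)) = 0
        rw [Derivation.leibniz, h, smul_zero, add_zero, smul_eq_mul, Ideal.Quotient.eq_zero_iff_mem]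
        exact Ideal.mul_mem_right _ _ (Ideal.mem_span_singleton_self a)))
    (fun x y => by
      obtain ⟨x, rfl⟩ := Ideal.Quotient.mk_surjective x
      obtain ⟨y, rfl⟩ := Ideal.Quotient.mk_surjective y
      show Ideal.Quotient.mk _ (D (x * y)) =
        Ideal.Quotient.mk _ x * Ideal.Quotient.mk _ (D y) + Ideal.Quotient.mk _ y * Ideal.Quotient.mk _ (D x)
      rw [Derivation.leibniz, smul_eq_mul, smul_eq_mul, map_add, map_mul, map_mul])

theorem descDer_mk (D : Derivation ℤ P P) (a : P) (h : D a = 0) (x : P) :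
    descDer D a h (Ideal.Quotient.mk _ x) = Ideal.Quotient.mk _ (D x) := rfl

theorem clear_span {f : Fin n → P} {I : Ideal P} {θ : P →+* B} {Q : Ideal B} [Q.IsPrime]
    (h : ∀ i, ∃ w, θ w ∉ Q ∧ w * f i ∈ I) : ∃ s, θ s ∉ Q ∧ ∀ i, s * f i ∈ I := by
  choose w hw hwI using h
  refine ⟨∏ i, w i, ?_, fun i => ?_⟩
  · rw [map_prod]
    intro hmem
    obtain ⟨i, -, hi⟩ := (Ideal.IsPrime.prod_mem_iff).1 hmem
    exact hw i hi
  · obtain ⟨r, hr⟩ := Finset.dvd_prod_of_mem w (Finset.mem_univ i)
    rw [hr, mul_comm (w i), mul_assoc]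
    exact Ideal.mul_mem_left _ _ (hwI i)

/-- At étale points, equations with invertible Jacobian generate the kernel. -/
theorem gen_of_et (D : Fin n → Derivation ℤ P P) (θ : P →+* B) (Q : Ideal B) [Q.IsPrime]
    (h : Et D θ Q) (f : Fin n → P) (hf : ∀ i, θ (f i) = 0) (hΔ : (jac D θ f).det ∉ Q) :
    ∀ x, θ x = 0 → ∃ w, θ w ∉ Q ∧ w * x ∈ Ideal.span (Set.range f) := by
  obtain ⟨g, hg, hdet, hgen⟩ := h
  obtain ⟨s, hs, hsf⟩ := clear_span fun i => hgen (f i) (hf i)
  choose m hm using fun i => Ideal.mem_span_range_iff_exists_fun.1 (hsf i)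
  let M : Matrix (Fin n) (Fin n) P := Matrix.of m
  have hM : ∀ i, s * f i = ∑ j, M i j * g j := fun i => (hm i).symm
  have htr := det_jac_trans D θ f g hf hg s M hM
  have hMQ : θ M.det ∉ Q := fun h => by
    have h1 : θ s ^ n * (jac D θ f).det ∈ Q := htr ▸ Ideal.mul_mem_right _ _ h
    rcases (Ideal.IsPrime.mem_or_mem ‹_› h1) with h2 | h2
    · exact hs (Ideal.IsPrime.mem_of_pow_mem ‹_› n h2)
    · exact hΔ h2
  intro x hx
  obtain ⟨w, hw, hwx⟩ := hgen x hx
  obtain ⟨c, hc⟩ := Ideal.mem_span_range_iff_exists_fun.1 hwx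
  refine ⟨M.det * w, fun h => ?_, ?_⟩
  · rw [map_mul] at h
    exact (Ideal.IsPrime.mem_or_mem ‹_› h).elim hMQ hw
  · rw [mul_assoc, ← hc, Finset.mul_sum]
    refine Ideal.sum_mem _ fun j _ => ?_
    rw [mul_left_comm]
    refine Ideal.mul_mem_left _ _ ((Ideal.span_le.2 ?_) (det_mul_mem_span (fun i => s * f i) g M hM j))
    rintro _ ⟨i, rfl⟩
    exact Ideal.mul_mem_left _ _ (Ideal.subset_span ⟨i, rfl⟩)

/-- Values of elements killing the kernel are multiples of the Jacobian. -/
theorem dvd_of_killing [IsRegularLocalRing P] [IsDomain B] [IsNoetherianRing B] [IsLocalRing B]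
    [IsIntegrallyClosed B] (D : Fin n → Derivation ℤ P P) (θ : P →+* B) (hθ : Function.Surjective θ)
    (hd : (2 : WithBot ℕ∞) ≤ ringKrullDim B)
    (het : ∀ (Q : Ideal B) [Q.IsPrime], Q ≠ maximalIdeal B → Et D θ Q)
    (f : Fin n → P) (hf : ∀ i, θ (f i) = 0) (hreg : IsWeaklyRegular P (List.ofFn f))
    (hΔ0 : (jac D θ f).det ≠ 0)
    (v : P) (hv : ∀ x, θ x = 0 → v * x ∈ Ideal.span (Set.range f)) :
    (jac D θ f).det ∣ θ v := by
  set Δ := (jac D θ f).det with hΔ
  refine NormalLib.dvd_of_forall_associatedPrimes fun Q hQ => ?_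
  haveI := hQ.isPrime
  have hne : Q ≠ maximalIdeal B := fun h => maximal_notMem_ass hΔ0 hd (h ▸ hQ)
  obtain ⟨g, hg, hdet, hgen⟩ := het Q hne
  obtain ⟨s, hs, hsf⟩ := clear_span fun i => hgen (f i) (hf i)
  choose m hm using fun i => Ideal.mem_span_range_iff_exists_fun.1 (hsf i)
  let M : Matrix (Fin n) (Fin n) P := Matrix.of m
  have hM : ∀ i, s * f i = ∑ j, M i j * g j := fun i => (hm i).symm
  have htr := det_jac_trans D θ f g hf hg s M hM
  let S := Localization.AtPrime (Q.comap θ)
  haveI : Module.Flat P S := IsLocalization.flat S (Q.comap θ).primeCompl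
  have hK := KRLib.isExactK_of_flat (R := S) (isExactK_ofFn f hreg)
  obtain ⟨σ, hσ⟩ := (IsLocalization.map_units S (⟨s, hs⟩ : (Q.comap θ).primeCompl))
  let c : Matrix (Fin n) (Fin n) S := ((σ⁻¹ : Sˣ) : S) • M.map (algebraMap P S)
  obtain ⟨a', ha'⟩ := KoszDetLib.exists_det_mul_sub_mem (g := fun j => algebraMap P S (g j)) hK c
    (fun i => by
      have h1 := congrArg (algebraMap P S) (hM i)
      rw [map_mul, map_sum, ← hσ] at h1
      show algebraMap P S (f i) = _
      rw [← Units.inv_mul_cancel_left σ (algebraMap P S (f i)), h1, Finset.mul_sum]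
      refine Finset.sum_congr rfl fun j _ => ?_
      simp [c, map_mul, mul_assoc])
    (algebraMap P S v) (fun z hz => by
      obtain ⟨b, rfl⟩ := Ideal.mem_span_range_iff_exists_fun.1 hz
      rw [Finset.mul_sum]
      refine Ideal.sum_mem _ fun j _ => ?_
      rw [mul_left_comm, ← map_mul]
      refine Ideal.mul_mem_left _ _ ?_
      have := Ideal.mem_map_of_mem (algebraMap P S) (hv (g j) (hg j))
      rwa [Ideal.map_span, ← Set.range_comp] at this)
  have hker : ∀ z ∈ Ideal.span (Set.range fun i => algebraMap P S (f i)), locMap θ Q z = 0 := by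
    intro z hz
    have hle : Ideal.span (Set.range fun i => algebraMap P S (f i)) ≤ RingHom.ker (locMap θ Q) := by
      rw [Ideal.span_le]
      rintro _ ⟨i, rfl⟩
      rw [SetLike.mem_coe, RingHom.mem_ker, locMap_to_map, hf, map_zero]
    exact hle hz
  have h1 : locMap θ Q (a' * c.det) = algebraMap B _ (θ v) := by
    rw [← locMap_to_map, ← sub_eq_zero, ← map_sub]
    exact hker _ ha'
  let BQ := Localization.AtPrime Q
  have h2 : algebraMap B BQ (θ s) ^ n * locMap θ Q c.det = algebraMap B BQ (θ M.det) := by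
    rw [← locMap_to_map, ← map_pow, ← map_mul, ← hσ, Matrix.det_smul, Fintype.card_fin,
      ← RingHom.mapMatrix_apply, ← RingHom.map_det, ← mul_assoc, ← mul_pow, Units.mul_inv,
      one_pow, one_mul, locMap_to_map]
  have h3 : algebraMap B BQ Δ = algebraMap B BQ (jac D θ g).det * locMap θ Q c.det := by
    have h4 := congrArg (algebraMap B BQ) htr
    rw [map_mul, map_mul, map_pow, ← h2] at h4
    have hu : IsUnit (algebraMap B BQ (θ s) ^ n) :=
      (IsLocalization.map_units BQ (⟨θ s, hs⟩ : Q.primeCompl)).pow n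
    refine hu.mul_left_cancel (h4.trans ?_)
    ring
  obtain ⟨γ, hγ⟩ := IsLocalization.map_units BQ (⟨(jac D θ g).det, hdet⟩ : Q.primeCompl)
  have h5 : algebraMap B BQ (θ v) = algebraMap B BQ Δ * (((γ⁻¹ : BQˣ) : BQ) * locMap θ Q a') := by
    rw [← h1, map_mul, h3, ← hγ,
      show (γ : BQ) * locMap θ Q c.det * (((γ⁻¹ : BQˣ) : BQ) * locMap θ Q a') =
        ((γ : BQ) * ((γ⁻¹ : BQˣ) : BQ)) * (locMap θ Q a' * locMap θ Q c.det) by ring,
      Units.mul_inv, one_mul]
  obtain ⟨b, t, hbt⟩ := IsLocalization.exists_mk'_eq Q.primeCompl (((γ⁻¹ : BQˣ) : BQ) * locMap θ Q a')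
  rw [← hbt] at h5
  refine ⟨t, t.2, ⟨b, ?_⟩⟩
  apply IsLocalization.injective BQ Q.primeCompl_le_nonZeroDivisors
  rw [map_mul, map_mul, h5, ← IsLocalization.mk'_spec BQ b t]
  ring

theorem isRegularLocalRing_of_localization_maximal (K : Type u) [CommRing K] [IsLocalRing K]
    [h : IsRegularLocalRing (Localization.AtPrime (maximalIdeal K))] : IsRegularLocalRing K :=
  IsRegularLocalRing.of_ringEquiv (IsLocalization.atUnits K (maximalIdeal K).primeCompl
    (S := Localization.AtPrime (maximalIdeal K)) (fun x hx => notMem_maximalIdeal.1 hx)).toRingEquiv.symm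

/-- The two-dimensional case: the point is standard étale. -/
theorem dim_two [IsRegularLocalRing P] [IsDomain B] [IsNoetherianRing B] [IsLocalRing B]
    [IsIntegrallyClosed B] (D : Fin n → Derivation ℤ P P) (θ : P →+* B) (hθ : Function.Surjective θ)
    (a : P) (ha : a ∈ maximalIdeal P) [IsRegularLocalRing (P ⧸ Ideal.span {a})]
    (hDa : ∀ j, D j a = 0) (ha0 : θ a ≠ 0) (hd : ringKrullDim B = 2)
    (het : ∀ (Q : Ideal B) [Q.IsPrime], Q ≠ maximalIdeal B → Et D θ Q)
    (hfin : IsReduced (B ⧸ Ideal.span {θ a}) → Module.Finite (B ⧸ Ideal.span {θ a})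
      (integralClosure (B ⧸ Ideal.span {θ a}) (FractionRing (B ⧸ Ideal.span {θ a})))) :
    IsRegularLocalRing B ∧ ∃ G : Fin n → P, RingHom.ker θ = Ideal.span (Set.range G) ∧
      IsUnit (jac D θ G).det := by
  classical
  haveI : IsRegularRing P := CommAlgDim.isRegularRing_of_isRegularLocalRing P
  haveI : IsRegularRing (P ⧸ Ideal.span {a}) := CommAlgDim.isRegularRing_of_isRegularLocalRing _
  have hloc := locSurj_of_surjective hθ
  have hd2 : (2 : WithBot ℕ∞) ≤ ringKrullDim B := hd.ge
  have hmax : (maximalIdeal P).map θ = maximalIdeal B := IsLocalRing.map_maximalIdeal_of_surjective θ hθ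
  have hbm : θ a ∈ maximalIdeal B := hmax ▸ Ideal.mem_map_of_mem θ ha
  have hcut := cut_props ha0 hbm hd2 fun Q _ hQ hne => by
    exact et_regular_quot θ Q D hloc (het Q hne) a hQ ha0 hDa
  let C := B ⧸ Ideal.span {θ a}
  haveI : IsReduced C := hcut.1
  haveI : Nontrivial C := Ideal.Quotient.nontrivial_iff.2
    (ne_top_of_le_ne_top (maximalIdeal.isMaximal B).ne_top ((Ideal.span_singleton_le_iff_mem _).2 hbm))
  haveI : IsLocalRing C := IsLocalRing.of_surjective' (Ideal.Quotient.mk _) Ideal.Quotient.mk_surjective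
  haveI : Module.Finite C (integralClosure C (FractionRing C)) := hfin hcut.1
  let mkC : B →+* C := Ideal.Quotient.mk (Ideal.span {θ a})
  have hdC : ringKrullDim C = 1 := by
    have h := ringKrullDim_quotient_span_singleton_succ_eq_ringKrullDim
      (IsSMulRegular.of_right_eq_zero_of_smul fun z hz => (mul_eq_zero.1 hz).resolve_left ha0) hbm
    obtain ⟨e, he⟩ := CommAlgDim.exists_ringKrullDim_eq (R := C)
    rw [hd, show ringKrullDim (B ⧸ Ideal.span {θ a}) = _ from he] at h
    rw [he]
    norm_cast at h ⊢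
    omega
  -- the height one primes over the parameter
  have hQprop : ∀ p ∈ minimalPrimes C, θ a ∈ p.comap mkC ∧ p.comap mkC ≠ maximalIdeal B := by
    intro p hp
    refine ⟨?_, fun h => ?_⟩
    · rw [Ideal.mem_comap, show mkC (θ a) = 0 from Ideal.Quotient.eq_zero_iff_mem.2 (Ideal.mem_span_singleton_self _)]
      exact zero_mem _
    · have hpm : p = maximalIdeal C := by
        rw [← Ideal.map_comap_of_surjective mkC Ideal.Quotient.mk_surjective p, h]
        exact IsLocalRing.map_maximalIdeal_of_surjective mkC Ideal.Quotient.mk_surjective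
      have h3 := IsLocalRing.maximalIdeal_height_eq_ringKrullDim (R := C)
      haveI := hp.1.1
      rw [← hpm, Ideal.height_eq_zero_iff.2 hp, hdC] at h3
      exact absurd h3 (by norm_num)
  -- dimensions
  have hker : ringKrullDim P = ((n + 2 : ℕ) : WithBot ℕ∞) := by
    haveI : (⊥ : Ideal B).IsPrime := Ideal.isPrime_bot
    have hb : (⊥ : Ideal B) ≠ maximalIdeal B := fun h => ha0 ((Ideal.mem_bot).1 (h ▸ hbm))
    have h1 := (et_regular θ ⊥ D hloc (het ⊥ hb)).2
    rw [Ideal.height_bot, zero_add, ← RingHom.ker_eq_comap_bot] at h1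
    haveI := RingHom.ker_isPrime θ
    have h2 := CatLib.ringKrullDim_quotient_add_height (CommAlgDim.isCM_of_isRegularLocalRing P) (RingHom.ker θ)
    rw [ringKrullDim_eq_of_ringEquiv (RingHom.quotientKerEquivOfSurjective hθ), hd, ← h1] at h2
    rw [← h2]
    push_cast
    rw [add_comm]
  let T : Finset (Ideal P) :=
    ((minimalPrimes.finite_of_isNoetherianRing C).image fun p => p.comap (mkC.comp θ)).toFinset
  have hπ : Function.Surjective (mkC.comp θ) := Ideal.Quotient.mk_surjective.comp hθ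
  obtain ⟨f, hfI, hreg, hfT⟩ := exists_equations D (RingHom.ker θ) a T
    (fun Q hQ => by
      obtain ⟨p, hp, rfl⟩ := (Set.Finite.mem_toFinset _).1 hQ
      haveI := hp.1.1
      exact Ideal.IsPrime.comap _)
    (fun Q hQ Q' hQ' hle => by
      obtain ⟨p, hp, rfl⟩ := (Set.Finite.mem_toFinset _).1 hQ
      obtain ⟨p', hp', rfl⟩ := (Set.Finite.mem_toFinset _).1 hQ'
      have hpp : p ≤ p' := by
        rw [← Ideal.map_comap_of_surjective _ hπ p, ← Ideal.map_comap_of_surjective _ hπ p']
        exact Ideal.map_mono hle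
      rw [le_antisymm hpp (hp'.2 hp.1 hpp)])
    (fun Q hQ => by
      obtain ⟨p, hp, rfl⟩ := (Set.Finite.mem_toFinset _).1 hQ
      haveI := hp.1.1
      obtain ⟨g, hg, hdet, -⟩ := het (p.comap mkC) (hQprop p hp).2
      refine ⟨fun x hx => ?_, (hQprop p hp).1, g, hg, fun h => hdet ?_⟩
      · rw [Ideal.mem_comap, RingHom.comp_apply, RingHom.mem_ker.1 hx, map_zero]; exact zero_mem _
      · rw [det_jac_eq]; exact h)
    ha (fun h => ha0 (by rw [h, map_zero])) (le_maximalIdeal (RingHom.ker_ne_top θ)) hker.ge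
    (fun P' hI haP => by
      have hle : RingHom.ker (mkC.comp θ) ≤ P' := fun x hx => by
        rw [RingHom.mem_ker, RingHom.comp_apply, Ideal.Quotient.eq_zero_iff_mem, Ideal.mem_span_singleton] at hx
        obtain ⟨c, hc⟩ := hx
        obtain ⟨c, rfl⟩ := hθ c
        have h1 : x - a * c ∈ P' := hI (by rw [RingHom.mem_ker, map_sub, map_mul, hc, sub_self])
        simpa using P'.add_mem h1 (P'.mul_mem_right c haP)
      refine le_trans ?_ hdC.le
      rw [← ringKrullDim_eq_of_ringEquiv (RingHom.quotientKerEquivOfSurjective hπ)]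
      exact ringKrullDim_le_of_surjective (Ideal.Quotient.factor hle) (Ideal.Quotient.factor_surjective hle))
  have hf : ∀ i, θ (f i) = 0 := hfI
  set Δ := (jac D θ f).det with hΔ
  have hΔp : ∀ p ∈ minimalPrimes C, Δ ∉ p.comap mkC := fun p hp h => by
    refine hfT _ ((Set.Finite.mem_toFinset _).2 ⟨p, hp, rfl⟩) ?_
    show θ (jac D (RingHom.id P) f).det ∈ p.comap mkC
    rwa [← det_jac_eq]
  obtain ⟨p₀, hp₀⟩ := Ideal.nonempty_minimalPrimes (I := (⊥ : Ideal C)) bot_ne_top
  have hΔ0 : Δ ≠ 0 := fun h => hΔp p₀ hp₀ (h ▸ zero_mem _)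
  -- normalisation
  let K := integralClosure C (FractionRing C)
  haveI : IsReduced (FractionRing C) := isReduced_localizationPreserves C⁰ _ ‹IsReduced C›
  haveI : IsReduced K := isReduced_of_injective K.val Subtype.val_injective
  have hCK : Function.Injective (algebraMap C K) := fun x y h =>
    IsLocalization.injective (FractionRing C) le_rfl (congrArg Subtype.val h)
  haveI : Nontrivial K := ⟨⟨0, 1, fun h => zero_ne_one (hCK (by rw [map_zero, map_one]; exact h))⟩⟩
  let θ₀ : (P ⧸ Ideal.span {a}) →+* K := Ideal.Quotient.lift (Ideal.span {a})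
    ((algebraMap C K).comp (mkC.comp θ)) fun x hx => by
      obtain ⟨c, rfl⟩ := Ideal.mem_span_singleton.1 hx
      have h0 : mkC (θ a) = 0 := Ideal.Quotient.eq_zero_iff_mem.2 (Ideal.mem_span_singleton_self _)
      rw [RingHom.comp_apply, RingHom.comp_apply, map_mul θ, map_mul mkC, h0, zero_mul, map_zero]
  let D₀ : Fin n → Derivation ℤ (P ⧸ Ideal.span {a}) (P ⧸ Ideal.span {a}) := fun j => descDer (D j) a (hDa j)
  let f₀ : Fin n → P ⧸ Ideal.span {a} := fun i => Ideal.Quotient.mk _ (f i)
  have hθ₀ : ∀ x, θ₀ (Ideal.Quotient.mk _ x) = algebraMap C K (mkC (θ x)) := fun x => rfl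
  have hΔ₀ : (jac D₀ θ₀ f₀).det = algebraMap C K (mkC Δ) := by
    rw [hΔ]
    erw [RingHom.map_det, RingHom.map_det]
    rfl
  have hΔC : mkC Δ ∈ C⁰ := mem_nonZeroDivisors_of_forall_minimal C fun p hp h => hΔp p hp h
  have hnzd : ∀ c ∈ C⁰, algebraMap C K c ∈ K⁰ := fun c hc => by
    rw [mem_nonZeroDivisors_iff_right]
    intro y hy
    exact Subtype.ext ((IsLocalization.map_units (FractionRing C) ⟨c, hc⟩).mul_left_eq_zero.1 (congrArg Subtype.val hy))
  have hgenf : ∀ p ∈ minimalPrimes C, ∀ x, θ x = 0 →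
      ∃ w, θ w ∉ p.comap mkC ∧ w * x ∈ Ideal.span (Set.range f) := fun p hp => by
    haveI := hp.1.1
    exact gen_of_et D θ _ (het _ (hQprop p hp).2) f hf (hΔp p hp)
  have hgen₀ : Gen θ₀ f₀ := by
    intro p hp x hx
    haveI := hp.1.1
    obtain ⟨x, rfl⟩ := Ideal.Quotient.mk_surjective x
    obtain ⟨q, hq, hqp⟩ := Ideal.exists_minimalPrimes_le (I := (⊥ : Ideal C))
      (J := p.comap (algebraMap C K)) bot_le
    have hqe : p.comap (algebraMap C K) = q := by
      refine le_antisymm (fun c hc => ?_) hqp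
      by_contra hcq
      haveI := hq.1.1
      have hmin : Ring.KrullDimLE 1 C := Ring.krullDimLE_iff.2 hdC.le
      have hpm : p.comap (algebraMap C K) = maximalIdeal C := by
        refine le_antisymm (le_maximalIdeal Ideal.IsPrime.ne_top') fun z hz => ?_
        by_contra hzp
        have hlt1 : q < p.comap (algebraMap C K) := lt_of_le_of_ne hqp fun h => hcq (h ▸ hc)
        have hlt2 : p.comap (algebraMap C K) < maximalIdeal C :=
          lt_of_le_of_ne (le_maximalIdeal Ideal.IsPrime.ne_top') fun h => hzp (h ▸ hz)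
        have h1 := Ideal.height_add_one_le_of_lt_of_isPrime hlt1
        have h2 := Ideal.height_add_one_le_of_lt_of_isPrime hlt2
        have h3 := IsLocalRing.maximalIdeal_height_eq_ringKrullDim (R := C)
        rw [hdC] at h3
        have h4 : (maximalIdeal C).height = 1 := by exact_mod_cast h3
        rw [h4] at h2
        rw [Ideal.height_eq_zero_iff.2 hq, zero_add] at h1
        exact absurd (le_trans (add_le_add_left h1 1) h2) (by norm_num)
      obtain ⟨z, hzm, hzn⟩ : ∃ z ∈ maximalIdeal C, z ∈ C⁰ := by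
        by_contra hcon
        push Not at hcon
        obtain ⟨q', hq', hle⟩ := (Ideal.subset_union_prime (f := fun q => q) ⊥ ⊥ fun q' hq' _ _ =>
          ((minimalPrimes.finite_of_isNoetherianRing C).mem_toFinset.1 hq').1.1).1
          (show (maximalIdeal C : Set C) ⊆ ⋃ q' ∈ ((minimalPrimes.finite_of_isNoetherianRing C).toFinset : Set (Ideal C)), (q' : Set C) from
            fun z hz => by
              by_contra hnot
              refine hcon z hz (mem_nonZeroDivisors_of_forall_minimal C fun q' hq' hzq => hnot ?_)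
              exact Set.mem_iUnion₂.2 ⟨q', (minimalPrimes.finite_of_isNoetherianRing C).mem_toFinset.2 hq', hzq⟩)
        have hq'' := (minimalPrimes.finite_of_isNoetherianRing C).mem_toFinset.1 hq'
        exact (hQprop q' hq'').2 (by
          haveI := hq''.1.1
          rw [le_antisymm (le_maximalIdeal Ideal.IsPrime.ne_top') hle]
          exact IsLocalRing.eq_maximalIdeal (Ideal.comap_isMaximal_of_surjective mkC Ideal.Quotient.mk_surjective))
      exact Set.disjoint_left.1 (Ideal.disjoint_nonZeroDivisors_of_mem_minimalPrimes hp)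
        (show algebraMap C K z ∈ p from (hpm ▸ hzm : z ∈ p.comap (algebraMap C K))) (hnzd z hzn)
    rw [hθ₀, map_eq_zero_iff _ hCK, Ideal.Quotient.eq_zero_iff_mem, Ideal.mem_span_singleton] at hx
    obtain ⟨c, hc⟩ := hx
    obtain ⟨c, rfl⟩ := hθ c
    obtain ⟨w, hw, hwx⟩ := hgenf q hq (x - a * c) (by rw [map_sub, map_mul, hc, sub_self])
    refine ⟨Ideal.Quotient.mk _ w, fun h => hw ?_, ?_⟩
    · rw [← hqe]
      exact h
    · have h1 := Ideal.mem_map_of_mem (Ideal.Quotient.mk (Ideal.span {a})) hwx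
      rw [Ideal.map_span, ← Set.range_comp, map_mul, map_sub,
        show Ideal.Quotient.mk (Ideal.span {a}) (a * c) = 0 from
          Ideal.Quotient.eq_zero_iff_mem.2 (Ideal.mul_mem_right _ _ (Ideal.mem_span_singleton_self a)),
        sub_zero] at h1
      exact h1
  obtain ⟨bs, hbs⟩ := (inferInstance : Module.Finite C K).fg_top
  have hgood : Good D₀ θ₀ f₀ := by
    refine good_descend (fun M _ => isRegularLocalRing_normalisation C hdC.le M) bs.toList _ n D₀ θ₀ f₀
      (fun i => by rw [hθ₀, hf, map_zero, map_zero]) hgen₀ (by rw [hΔ₀]; exact hnzd _ hΔC)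
      (fun b _ => ?_) (fun b _ => ?_) ?_
    · obtain ⟨⟨r, s⟩, hrs⟩ := IsLocalization.surj C⁰ (b : FractionRing C)
      obtain ⟨s', hs'⟩ := hπ (s : C)
      obtain ⟨r', hr'⟩ := hπ r
      refine ⟨Ideal.Quotient.mk _ s', Ideal.Quotient.mk _ r', ?_, ?_⟩
      · rw [hθ₀, show mkC (θ s') = (s : C) from hs']
        exact hnzd _ s.2
      · rw [hθ₀, hθ₀, show mkC (θ s') = (s : C) from hs', show mkC (θ r') = r from hr']
        exact Subtype.ext ((mul_comm _ _).trans hrs)
    · obtain ⟨H, hHm, hH⟩ := (Algebra.IsIntegral.isIntegral (R := C) b)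
      let lft : (P ⧸ Ideal.span {a}) →+* C := Ideal.Quotient.lift _ (mkC.comp θ) fun x hx => hCK (by
        rw [map_zero, RingHom.comp_apply, ← hθ₀, Ideal.Quotient.eq_zero_iff_mem.2 hx, map_zero])
      have hl : Function.Surjective lft := fun y => by
        obtain ⟨x, rfl⟩ := hπ y
        exact ⟨Ideal.Quotient.mk _ x, rfl⟩
      obtain ⟨H', hH', -, hH'm⟩ := Polynomial.lifts_and_degree_eq_and_monic
        (Polynomial.mem_lifts_of_surjective hl H) hHm
      refine ⟨H', hH'm, ?_⟩
      rw [show θ₀ = (algebraMap C K).comp lft from Ideal.Quotient.ringHom_ext rfl, ← Polynomial.eval₂_map, hH']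
      exact hH
    · rw [eq_top_iff]
      intro y hy
      clear hy
      have h1 : y ∈ Algebra.adjoin C (bs : Set K) :=
        (Algebra.span_le_adjoin C (bs : Set K)) (hbs.ge Submodule.mem_top)
      induction h1 using Algebra.adjoin_induction with
      | mem z hz => exact Subring.subset_closure (Or.inr (by simpa using hz))
      | algebraMap c =>
        obtain ⟨x, rfl⟩ := hπ c
        exact Subring.subset_closure (Or.inl ⟨Ideal.Quotient.mk _ x, rfl⟩)
      | add z w _ _ hz hw => exact add_mem hz hw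
      | mul z w _ _ hz hw => exact mul_mem hz hw
  -- the Gorenstein quotient
  have hperm : IsRegular P (List.ofFn f ++ [a]) :=
    IsLocalRing.isRegular_of_perm hreg (List.perm_append_singleton a (List.ofFn f)).symm
  have hwf : IsWeaklyRegular P (List.ofFn f) := ((isWeaklyRegular_append_iff P _ _).1 hperm.toIsWeaklyRegular).1
  have hfreg : IsRegular P (List.ofFn f) := IsRegular.of_isWeaklyRegular_of_mem_maximalIdeal P
    (fun r hr => CommAlgDim.mem_maximalIdeal_of_isRegular hperm r (List.mem_append_left _ hr)) hwf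
  obtain ⟨hG, hDdim⟩ := quotient_props _ hfreg
  let Dq := P ⧸ Ideal.ofList (List.ofFn f)
  haveI : LocCoh.IsGorensteinLocalRing Dq := hG
  have hDd : ringKrullDim Dq = ((2 : ℕ) : WithBot ℕ∞) := by
    obtain ⟨e, he⟩ := CommAlgDim.exists_ringKrullDim_eq (R := Dq)
    rw [show ringKrullDim (P ⧸ Ideal.ofList (List.ofFn f)) = _ from he, hker, List.length_ofFn] at hDdim
    rw [he]
    norm_cast at hDdim ⊢
    omega
  let θq : Dq →+* B := Ideal.Quotient.lift _ θ fun x hx => by
    rw [ofList_ofFn] at hx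
    exact (Ideal.span_le.2 (by rintro _ ⟨i, rfl⟩; exact hfI i) : Ideal.span (Set.range f) ≤ RingHom.ker θ) hx
  have hθq : Function.Surjective θq := fun y => by
    obtain ⟨x, rfl⟩ := hθ y
    exact ⟨Ideal.Quotient.mk _ x, rfl⟩
  have hI2 : CommAlgDim.HasSeqIn (maximalIdeal Dq) (Dq ⧸ RingHom.ker θq) 2 := by
    letI := θq.toAlgebra
    obtain ⟨rs, hl, hm, hr⟩ := hasSeqIn_two ha0 hbm hd2
    let σ := Function.surjInv hθq
    have hσ : (rs.map σ).map θq = rs := by
      rw [List.map_map]
      conv_rhs => rw [← List.map_id rs]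
      exact List.map_congr_left fun x _ => Function.surjInv_eq hθq x
    refine CommAlgDim.HasSeqIn.congr (M := B) ?_ ⟨rs.map σ, by rw [List.length_map, hl], ?_, ?_⟩
    · exact ((LinearMap.quotKerEquivOfSurjective (Algebra.linearMap Dq B) hθq).symm.trans
        (Submodule.quotEquivOfEq _ _ rfl))
    · intro r hr'
      obtain ⟨x, hx, rfl⟩ := List.mem_map.1 hr'
      by_contra hu
      have h1 := (notMem_maximalIdeal.1 hu).map θq
      rw [Function.surjInv_eq hθq] at h1
      exact (mem_maximalIdeal x).1 (hm x hx) h1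
    · refine (isWeaklyRegular_map_algebraMap_iff B B (rs.map σ)).1 ?_
      rw [show (rs.map σ).map (algebraMap Dq B) = rs from hσ]
      exact hr
  have hclosed : ∀ u : K, ∃ c : C, algebraMap C K c = u := by
    intro u
    obtain ⟨v₀, hv₀, hv₀u⟩ := hgood u
    obtain ⟨v, rfl⟩ := Ideal.Quotient.mk_surjective v₀
    have hva : ∀ x, θ x = 0 → v * x ∈ Ideal.span (Set.range f) ⊔ Ideal.span {a} := fun x hx => by
      have h1 := hv₀ (Ideal.Quotient.mk _ x) (by rw [hθ₀, hx, map_zero, map_zero])
      rw [← map_mul, show Set.range f₀ = Ideal.Quotient.mk (Ideal.span {a}) '' Set.range f from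
        Set.range_comp _ f, ← Ideal.map_span, Ideal.mem_quotient_iff_mem_sup] at h1
      exact h1
    obtain ⟨-, hcol, -⟩ := GorLib.mcm_colon 1 Dq 2 hDd (RingHom.ker θq) hI2 [Ideal.Quotient.mk _ a] rfl
      ((isWeaklyRegular_singleton_iff _ _).2 (IsSMulRegular.of_right_eq_zero_of_smul fun z hz => by
        obtain ⟨z, rfl⟩ := Ideal.Quotient.mk_surjective z
        rw [smul_eq_mul, ← map_mul, Ideal.Quotient.eq_zero_iff_mem] at hz
        rw [Ideal.Quotient.eq_zero_iff_mem]
        have h2 := ((isWeaklyRegular_append_iff P _ _).1 hperm.toIsWeaklyRegular).2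
        rw [isWeaklyRegular_singleton_iff] at h2
        have h3 := h2.right_eq_zero_of_smul (x := Submodule.Quotient.mk z) (by
          rw [← Submodule.Quotient.mk_smul, Submodule.Quotient.mk_eq_zero, smul_eq_mul, smul_eq_mul,
            Ideal.mul_top]
          exact hz)
        rw [Submodule.Quotient.mk_eq_zero, smul_eq_mul, Ideal.mul_top] at h3
        exact h3))
      (by
        intro x hx
        rw [List.mem_singleton.1 hx]
        by_contra hu
        have h1 := (notMem_maximalIdeal.1 hu).map θq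
        exact (mem_maximalIdeal _).1 hbm h1)
    have h1 := hcol (Ideal.Quotient.mk _ v) (fun b hb => by
      obtain ⟨x, rfl⟩ := Ideal.Quotient.mk_surjective b
      have hxk : θ x = 0 := hb
      rw [← map_mul, Ideal.ofList_singleton, ← Set.image_singleton, ← Ideal.map_span,
        Ideal.mem_quotient_iff_mem_sup, ofList_ofFn, sup_comm]
      exact hva x hxk)
    obtain ⟨w, hw, y, hy, hwy⟩ := Submodule.mem_sup.1 h1
    obtain ⟨w, rfl⟩ := Ideal.Quotient.mk_surjective w
    have hwk : ∀ x, θ x = 0 → w * x ∈ Ideal.span (Set.range f) := fun x hx => by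
      have h2 := Submodule.mem_annihilator.1 hw (Ideal.Quotient.mk _ x)
        (show θq (Ideal.Quotient.mk _ x) = 0 from hx)
      rw [smul_eq_mul, ← map_mul, Ideal.Quotient.eq_zero_iff_mem, ofList_ofFn] at h2
      exact h2
    obtain ⟨c, hc⟩ := dvd_of_killing D θ hθ hd2 het f hf hwf hΔ0 w hwk
    refine ⟨mkC c, (mul_cancel_left_mem_nonZeroDivisors (hnzd _ hΔC)).1 ?_⟩
    rw [← map_mul, ← map_mul, ← hc, ← hΔ₀, ← hv₀u, hθ₀]
    congr 1
    rw [Ideal.ofList_singleton, Ideal.mem_span_singleton] at hy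
    obtain ⟨y', hy'⟩ := hy
    obtain ⟨y', rfl⟩ := Ideal.Quotient.mk_surjective y'
    have h3 : θ v = θ w + θ a * θ y' := by
      have h4 := congrArg θq hwy
      rw [map_add, hy', map_mul] at h4
      exact h4.symm
    rw [h3, map_add, map_mul,
      show mkC (θ a) = 0 from Ideal.Quotient.eq_zero_iff_mem.2 (Ideal.mem_span_singleton_self _),
      zero_mul, add_zero]
  have hCreg : IsRegularLocalRing C := by
    have e : C ≃+* K := RingEquiv.ofBijective (algebraMap C K) ⟨hCK, fun u => hclosed u⟩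
    haveI : IsLocalRing K := e.isLocalRing
    haveI := isRegularLocalRing_normalisation C hdC.le (maximalIdeal K)
    haveI : IsRegularLocalRing K := isRegularLocalRing_of_localization_maximal K
    exact IsRegularLocalRing.of_ringEquiv e.symm
  have hBreg : IsRegularLocalRing B := by
    haveI : IsRegularLocalRing (B ⧸ Ideal.ofList [θ a]) :=
      IsRegularLocalRing.of_ringEquiv (R := C) (Ideal.quotEquivOfEq (Ideal.ofList_singleton (θ a)).symm)
    refine CommAlgDim.isRegularLocalRing_of_quotient B (rs := [θ a]) (IsRegular.of_isWeaklyRegular_of_mem_maximalIdeal B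
      (fun r hr => by rw [List.mem_singleton.1 hr]; exact hbm) ((isWeaklyRegular_singleton_iff _ _).2
        (IsSMulRegular.of_right_eq_zero_of_smul fun z hz => (mul_eq_zero.1 hz).resolve_left ha0)))
  refine ⟨hBreg, ?_⟩
  haveI : IsRegularLocalRing (P ⧸ RingHom.ker θ) :=
    IsRegularLocalRing.of_ringEquiv (RingHom.quotientKerEquivOfSurjective hθ).symm
  have hcount : (RingHom.ker θ).spanFinrank = n := by
    have h1 := CommAlgDim.ringKrullDim_quotient_add_of_regular_quotient (J := RingHom.ker θ)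
    rw [ringKrullDim_eq_of_ringEquiv (RingHom.quotientKerEquivOfSurjective hθ), hd, hker] at h1
    norm_cast at h1
    omega
  obtain ⟨G₀, hG₀c, hG₀⟩ := Submodule.FG.exists_span_finset_card_eq_spanFinrank
    (IsNoetherian.noetherian (RingHom.ker θ))
  let e₀ : Fin n ≃ G₀ := (finCongr (hcount.symm.trans hG₀c.symm)).trans G₀.equivFin.symm
  let G : Fin n → P := fun i => (e₀ i : P)
  have hGs : RingHom.ker θ = Ideal.span (Set.range G) := by
    rw [← hG₀]
    refine congrArg Ideal.span (Set.ext fun x => ⟨fun hx => ⟨e₀.symm ⟨x, hx⟩, by simp [G]⟩, ?_⟩)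
    rintro ⟨i, rfl⟩
    exact (e₀ i).2
  refine ⟨G, hGs, ?_⟩
  by_contra hu
  obtain ⟨Q, hQ, -⟩ := Ideal.exists_minimalPrimes_le (I := Ideal.span {(jac D θ G).det}) (J := maximalIdeal B)
    ((Ideal.span_singleton_le_iff_mem _).2 ((mem_maximalIdeal _).2 hu))
  haveI := hQ.1.1
  have hht : Q.height ≤ 1 := Ideal.height_le_one_of_isPrincipal_of_mem_minimalPrimes _ Q hQ
  have hne : Q ≠ maximalIdeal B := fun h => by
    have h2 := IsLocalRing.maximalIdeal_height_eq_ringKrullDim (R := B)
    rw [← h, hd] at h2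
    have h3 : Q.height = 2 := WithBot.coe_inj.1 (h2.trans rfl)
    rw [h3] at hht
    norm_num at hht
  obtain ⟨g, hg, hdet, -⟩ := het Q hne
  choose m hm using fun i => Ideal.mem_span_range_iff_exists_fun.1
    (show g i ∈ Ideal.span (Set.range G) from hGs ▸ (show g i ∈ RingHom.ker θ from hg i))
  have hGk : ∀ j, θ (G j) = 0 := fun j => by
    have : G j ∈ RingHom.ker θ := hGs ▸ Ideal.subset_span ⟨j, rfl⟩
    exact this
  have htr := det_jac_trans D θ g G hg hGk 1 (Matrix.of m) fun i => by rw [one_mul]; exact (hm i).symm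
  rw [map_one, one_pow, one_mul] at htr
  exact hdet (htr ▸ Ideal.mul_mem_left _ _ (hQ.1.2 (Ideal.mem_span_singleton_self _)))

end PurityRamLib
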