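import Groth.Agent.PurityRamLib.Setup

/-! # Adjoining elements which are rational over the étale locus -/

set_option autoImplicit false
noncomputable section
universe u

open IsLocalRing
open scoped nonZeroDivisors

namespace PurityRamLib

variable {A : Type u} [CommRing A] {C : Type u} [CommRing C] {L : Type u} [CommRing L] {n m : ℕ}

/-- The presentation with extra generators. -/
def ext' (ψ₀ : MvPolynomial (Fin n) A →+* C) (ι : C →+* L) (b : Fin m → L) :
    MvPolynomial (Fin (n + m)) A →+* L :=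
  MvPolynomial.eval₂Hom (ι.comp (ψ₀.comp MvPolynomial.C))
    (Fin.append (fun i => ι (ψ₀ (MvPolynomial.X i))) b)

variable (ψ₀ : MvPolynomial (Fin n) A →+* C) (ι : C →+* L) (b : Fin m → L)

theorem ext'_C (a : A) : ext' ψ₀ ι b (MvPolynomial.C a) = ι (ψ₀ (MvPolynomial.C a)) :=
  MvPolynomial.eval₂Hom_C _ _ a

theorem ext'_X_natAdd (l : Fin m) : ext' ψ₀ ι b (MvPolynomial.X (Fin.natAdd n l)) = b l := by
  rw [ext', MvPolynomial.eval₂Hom_X', Fin.append_right]

theorem ext'_rename (x : MvPolynomial (Fin n) A) :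
    ext' ψ₀ ι b (MvPolynomial.rename (Fin.castAdd m) x) = ι (ψ₀ x) := by
  induction x using MvPolynomial.induction_on with
  | C a => rw [MvPolynomial.rename_C, ext'_C]
  | add x y hx hy => simp only [map_add, hx, hy]
  | mul_X x i hx => rw [map_mul, MvPolynomial.rename_X, map_mul, hx, ext', MvPolynomial.eval₂Hom_X',
      Fin.append_left, map_mul, map_mul]

theorem pd_rename_castAdd (i : Fin n) (x : MvPolynomial (Fin n) A) :
    pd (Fin.castAdd m i) (MvPolynomial.rename (Fin.castAdd m) x) =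
      MvPolynomial.rename (Fin.castAdd m) (pd i x) :=
  MvPolynomial.pderiv_rename (Fin.castAdd_injective n m) i x

theorem pd_rename_natAdd (l : Fin m) (x : MvPolynomial (Fin n) A) :
    pd (Fin.natAdd n l) (MvPolynomial.rename (Fin.castAdd m) x) = 0 := by
  classical
  refine MvPolynomial.pderiv_eq_zero_of_notMem_vars fun h => ?_
  obtain ⟨i, -, hi⟩ := Finset.mem_image.1 (MvPolynomial.vars_rename _ _ h)
  have h2 := congrArg Fin.val hi
  simp only [Fin.val_castAdd, Fin.val_natAdd] at h2
  omega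

theorem det_jac_extend (g₀ : Fin n → MvPolynomial (Fin n) A) (s r : Fin m → MvPolynomial (Fin n) A) :
    (jac pd (ext' ψ₀ ι b) (Fin.append (fun i => MvPolynomial.rename (Fin.castAdd m) (g₀ i))
      fun l => MvPolynomial.rename (Fin.castAdd m) (s l) * MvPolynomial.X (Fin.natAdd n l) -
        MvPolynomial.rename (Fin.castAdd m) (r l))).det =
      ι (jac pd ψ₀ g₀).det * ∏ l, ι (ψ₀ (s l)) := by
  classical
  set g := Fin.append (fun i => MvPolynomial.rename (Fin.castAdd m) (g₀ i))
    fun l => MvPolynomial.rename (Fin.castAdd m) (s l) * MvPolynomial.X (Fin.natAdd n l) -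
      MvPolynomial.rename (Fin.castAdd m) (r l)
  set J := jac pd (ext' ψ₀ ι b) g
  rw [← Matrix.det_submatrix_equiv_self finSumFinEquiv J,
    show J.submatrix finSumFinEquiv finSumFinEquiv = Matrix.fromBlocks ((jac pd ψ₀ g₀).map ι) 0
      (Matrix.of fun l i => J (Fin.natAdd n l) (Fin.castAdd m i)) (Matrix.diagonal fun l => ι (ψ₀ (s l))) from ?_,
    Matrix.det_fromBlocks_zero₁₂, Matrix.det_diagonal, ← RingHom.mapMatrix_apply, ← RingHom.map_det]
  refine Matrix.ext fun p q => ?_
  rcases p with i | l <;> rcases q with j | k <;>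
    simp only [Matrix.submatrix_apply, finSumFinEquiv_apply_left, finSumFinEquiv_apply_right,
      Matrix.fromBlocks_apply₁₁, Matrix.fromBlocks_apply₁₂, Matrix.fromBlocks_apply₂₁,
      Matrix.fromBlocks_apply₂₂, Matrix.map_apply, Matrix.of_apply, Matrix.zero_apply]
  · show ext' ψ₀ ι b (pd _ (g _)) = _
    simp only [g, Fin.append_left, pd_rename_castAdd, ext'_rename, jac_apply]
    rfl
  · show ext' ψ₀ ι b (pd _ (g _)) = _
    simp only [g, Fin.append_left, pd_rename_natAdd, map_zero]
  · show ext' ψ₀ ι b (pd _ (g _)) = _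
    simp only [g, Fin.append_right, map_sub, Derivation.leibniz, pd_rename_natAdd, smul_zero, add_zero,
      sub_zero, smul_eq_mul, map_mul, mul_zero, map_zero, ext'_rename]
    show ι (ψ₀ (s l)) * ext' ψ₀ ι b (MvPolynomial.pderiv (Fin.natAdd n k) (MvPolynomial.X (Fin.natAdd n l))) = _
    by_cases h : l = k
    · subst h; rw [MvPolynomial.pderiv_X_self, map_one, mul_one, Matrix.diagonal_apply_eq]
    · rw [MvPolynomial.pderiv_X_of_ne (fun h' => h (Fin.natAdd_injective m n h')), map_zero, mul_zero,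
        Matrix.diagonal_apply_ne _ h]

/-- Étale points stay étale after adjoining elements that are rational there. -/
theorem et_extend (hψ₀ : LocSurj ψ₀) (Q' : Ideal L) [Q'.IsPrime] (h : Et pd ψ₀ (Q'.comap ι))
    (hb : ∀ l, ∃ s r, ψ₀ s ∉ Q'.comap ι ∧ ι (ψ₀ s) * b l = ι (ψ₀ r))
    (hker : ∀ c, ι c = 0 → ∃ w, w ∉ Q'.comap ι ∧ w * c = 0) :
    Et pd (ext' ψ₀ ι b) Q' := by
  classical
  obtain ⟨g₀, hg₀, hdet, hgen⟩ := h
  choose s r hs hsr using hb
  let ρ : MvPolynomial (Fin n) A →ₐ[A] MvPolynomial (Fin (n + m)) A := MvPolynomial.rename (Fin.castAdd m)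
  let g := Fin.append (fun i => ρ (g₀ i)) fun l => ρ (s l) * MvPolynomial.X (Fin.natAdd n l) - ρ (r l)
  have hg : ∀ i, ext' ψ₀ ι b (g i) = 0 := Fin.addCases
    (fun i => by rw [show g (Fin.castAdd m i) = ρ (g₀ i) from Fin.append_left _ _ i, ext'_rename, hg₀, map_zero])
    (fun l => by rw [show g (Fin.natAdd n l) = _ from Fin.append_right _ _ l, map_sub, map_mul, ext'_rename,
      ext'_X_natAdd, ext'_rename, hsr, sub_self])
  refine ⟨g, hg, ?_, fun x hx => ?_⟩
  · show (jac pd (ext' ψ₀ ι b) (Fin.append (fun i => MvPolynomial.rename (Fin.castAdd m) (g₀ i))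
      fun l => MvPolynomial.rename (Fin.castAdd m) (s l) * MvPolynomial.X (Fin.natAdd n l) -
        MvPolynomial.rename (Fin.castAdd m) (r l))).det ∉ Q'
    rw [det_jac_extend]
    intro hmem
    rcases Ideal.IsPrime.mem_or_mem ‹_› hmem with h1 | h1
    · exact hdet h1
    · obtain ⟨l, -, hl⟩ := (Ideal.IsPrime.prod_mem_iff).1 h1
      exact hs l hl
  let I := Ideal.span (Set.range g)
  have key : ∀ x : MvPolynomial (Fin (n + m)) A, ∃ w x₀, ψ₀ w ∉ Q'.comap ι ∧ ρ w * x - ρ x₀ ∈ I := by
    intro x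
    induction x using MvPolynomial.induction_on with
    | C a => exact ⟨1, MvPolynomial.C a, by rw [map_one]; exact Ideal.IsPrime.one_notMem inferInstance,
        by rw [map_one, one_mul, show ρ (MvPolynomial.C a) = _ from MvPolynomial.rename_C _ a, sub_self]; exact zero_mem _⟩
    | add x y hx hy =>
      obtain ⟨w, x₀, hw, hx⟩ := hx
      obtain ⟨v, y₀, hv, hy⟩ := hy
      refine ⟨w * v, v * x₀ + w * y₀, ?_, ?_⟩
      · rw [map_mul]
        exact fun h => (Ideal.IsPrime.mem_or_mem inferInstance h).elim hw hv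
      · have e : ρ (w * v) * (x + y) - ρ (v * x₀ + w * y₀) = ρ v * (ρ w * x - ρ x₀) + ρ w * (ρ v * y - ρ y₀) := by
          simp only [map_mul, map_add]; ring
        rw [e]
        exact add_mem (Ideal.mul_mem_left _ _ hx) (Ideal.mul_mem_left _ _ hy)
    | mul_X x i hx =>
      obtain ⟨w, x₀, hw, hx⟩ := hx
      induction i using Fin.addCases with
      | left i =>
        refine ⟨w, x₀ * MvPolynomial.X i, hw, ?_⟩
        have e : ρ w * (x * MvPolynomial.X (Fin.castAdd m i)) - ρ (x₀ * MvPolynomial.X i) =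
            (ρ w * x - ρ x₀) * MvPolynomial.X (Fin.castAdd m i) := by
          rw [map_mul, show ρ (MvPolynomial.X i) = _ from MvPolynomial.rename_X _ i]; ring
        rw [e]
        exact Ideal.mul_mem_right _ _ hx
      | right l =>
        refine ⟨w * s l, x₀ * r l, ?_, ?_⟩
        · rw [map_mul]
          exact fun h => (Ideal.IsPrime.mem_or_mem inferInstance h).elim hw (hs l)
        · have e : ρ (w * s l) * (x * MvPolynomial.X (Fin.natAdd n l)) - ρ (x₀ * r l) =
              (ρ w * x - ρ x₀) * (ρ (s l) * MvPolynomial.X (Fin.natAdd n l)) +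
                ρ x₀ * g (Fin.natAdd n l) := by
            rw [show g (Fin.natAdd n l) = _ from Fin.append_right _ _ l]
            simp only [map_mul]; ring
          rw [e]
          exact add_mem (Ideal.mul_mem_right _ _ hx) (Ideal.mul_mem_left _ _ (Ideal.subset_span ⟨_, rfl⟩))
  obtain ⟨w, x₀, hw, hwx⟩ := key x
  have h0 : ι (ψ₀ x₀) = 0 := by
    have hI : I ≤ RingHom.ker (ext' ψ₀ ι b) := Ideal.span_le.2 (by rintro _ ⟨i, rfl⟩; exact hg i)
    have h1 := RingHom.mem_ker.1 (hI hwx)
    rw [map_sub, map_mul, hx, mul_zero, zero_sub, neg_eq_zero] at h1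
    exact (ext'_rename ψ₀ ι b x₀).symm.trans h1
  obtain ⟨c, hc, hc0⟩ := hker _ h0
  obtain ⟨c', t, ht, hct⟩ := hψ₀ c
  obtain ⟨v, hv, hvx⟩ := hgen (c' * x₀) (by rw [map_mul, ← hct, mul_assoc, hc0, mul_zero])
  refine ⟨ρ (v * c' * w), ?_, ?_⟩
  · rw [ext'_rename]
    show ψ₀ (v * c' * w) ∉ Q'.comap ι
    rw [map_mul, map_mul, ← hct]
    intro h
    rcases Ideal.IsPrime.mem_or_mem inferInstance h with h | h
    · rcases Ideal.IsPrime.mem_or_mem inferInstance h with h | h
      · exact hv h
      · exact hc ((Ideal.unit_mul_mem_iff_mem _ ht).1 h)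
    · exact hw h
  · have e : ρ (v * c' * w) * x = ρ (v * c') * (ρ w * x - ρ x₀) + ρ (v * (c' * x₀)) := by
      simp only [map_mul]; ring
    rw [e]
    refine add_mem (Ideal.mul_mem_left _ _ hwx) ?_
    have h2 := Ideal.mem_map_of_mem ρ.toRingHom hvx
    rw [Ideal.map_span, ← Set.range_comp] at h2
    refine Ideal.span_mono ?_ h2
    rintro _ ⟨i, rfl⟩
    exact ⟨Fin.castAdd m i, Fin.append_left _ _ i⟩

/-- Elements of the normalisation are rational at normal points. -/
theorem exists_mul_mem [IsReduced C] (p : Ideal C) [p.IsPrime] [IsDomain (Localization.AtPrime p)]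
    [IsIntegrallyClosed (Localization.AtPrime p)] (z : integralClosure C (FractionRing C)) :
    ∃ s r : C, s ∉ p ∧
      algebraMap C (integralClosure C (FractionRing C)) s * z = algebraMap C (integralClosure C (FractionRing C)) r := by
  let F := FractionRing C
  let Cp := Localization.AtPrime p
  let G := FractionRing Cp
  have hzero : ∀ c : C, algebraMap C G c = 0 → ∃ w, w ∉ p ∧ w * c = 0 := fun c hc => by
    rw [IsScalarTower.algebraMap_apply C Cp G, map_eq_zero_iff _ (IsFractionRing.injective Cp G)] at hc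
    obtain ⟨w, hw⟩ := (IsLocalization.map_eq_zero_iff p.primeCompl Cp c).1 hc
    exact ⟨w, w.2, hw⟩
  have hu : ∀ c : C⁰, IsUnit (algebraMap C G c) := fun c => isUnit_iff_ne_zero.2 fun h => by
    obtain ⟨w, hw, hw0⟩ := hzero c h
    exact hw (by rw [mem_nonZeroDivisors_iff_right.1 c.2 w hw0]; exact zero_mem _)
  let Φ : F →ₐ[C] G := IsLocalization.liftAlgHom (M := C⁰) (f := Algebra.ofId C G) hu
  obtain ⟨d, hd⟩ := IsIntegrallyClosed.isIntegral_iff.1 (((z.2 : IsIntegral C (z : F)).map Φ).tower_top (A := Cp))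
  obtain ⟨c, t, rfl⟩ := IsLocalization.exists_mk'_eq p.primeCompl d
  obtain ⟨⟨r₀, s₀⟩, hrs⟩ := IsLocalization.surj C⁰ ((z : F) * algebraMap C F t - algebraMap C F c)
  have h1 : algebraMap C G r₀ = 0 := by
    rw [← Φ.commutes, ← hrs, map_mul, map_sub, map_mul, ← hd, Φ.commutes, Φ.commutes,
      IsScalarTower.algebraMap_apply C Cp G (t : C), ← map_mul, IsLocalization.mk'_spec,
      ← IsScalarTower.algebraMap_apply, sub_self, zero_mul]
  obtain ⟨w, hw, hw0⟩ := hzero r₀ h1
  have h2 : algebraMap C F w * ((z : F) * algebraMap C F t - algebraMap C F c) = 0 := by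
    refine (IsLocalization.map_units F s₀).mul_left_eq_zero.1 ?_
    rw [mul_assoc, hrs, ← map_mul, hw0, map_zero]
  refine ⟨w * t, w * c, fun h => (Ideal.IsPrime.mem_or_mem inferInstance h).elim hw t.2, Subtype.ext ?_⟩
  show algebraMap C F (w * t) * (z : F) = algebraMap C F (w * c)
  rw [map_mul, map_mul, ← sub_eq_zero, ← h2]
  ring

end PurityRamLib
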