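import Mathlib
import Groth.Agent.CommAlgDim.Regular
import Groth.Agent.CommAlgDim.GlobalDim
import Groth.Agent.KRLib.Seq
import Groth.Agent.KoszDetLib.Model
import Groth.Agent.NagataLib.Extend

/-! # Jacobian matrices along a ring map, regular sequences from invertible Jacobians -/

set_option autoImplicit false
noncomputable section
universe u v

open IsLocalRing RingTheory.Sequence

namespace PurityRamLib

variable {R : Type u} [CommRing R] {K : Type v} [CommRing K] {N : ℕ}

/-- The Jacobian matrix of `f` along `θ`. -/
def jac (D : Fin N → Derivation ℤ R R) (θ : R →+* K) (f : Fin N → R) : Matrix (Fin N) (Fin N) K :=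
  Matrix.of fun i j => θ (D j (f i))

theorem jac_apply (D : Fin N → Derivation ℤ R R) (θ : R →+* K) (f : Fin N → R) (i j : Fin N) :
    jac D θ f i j = θ (D j (f i)) := rfl

theorem det_jac_map {L : Type*} [CommRing L] (D : Fin N → Derivation ℤ R R) (θ : R →+* K)
    (φ : K →+* L) (f : Fin N → R) : φ (jac D θ f).det = (jac D (φ.comp θ) f).det := by
  rw [RingHom.map_det]
  rfl

theorem det_jac_eq (D : Fin N → Derivation ℤ R R) (θ : R →+* K) (f : Fin N → R) :
    (jac D θ f).det = θ (jac D (RingHom.id R) f).det := by
  rw [det_jac_map]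
  rfl

/-- Transformation of the Jacobian determinant under a change of generators. -/
theorem det_jac_trans (D : Fin N → Derivation ℤ R R) (θ : R →+* K) (f g : Fin N → R)
    (hf : ∀ i, θ (f i) = 0) (hg : ∀ j, θ (g j) = 0) (s : R) (M : Matrix (Fin N) (Fin N) R)
    (h : ∀ i, s * f i = ∑ j, M i j * g j) :
    θ s ^ N * (jac D θ f).det = θ M.det * (jac D θ g).det := by
  have key : θ s • jac D θ f = M.map θ * jac D θ g := by
    refine Matrix.ext fun i k => ?_
    have h1 := congrArg (fun x => θ (D k x)) (h i)
    simp only [Derivation.leibniz, map_sum, smul_eq_mul, map_add, map_mul, hf, hg, zero_mul,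
      add_zero] at h1
    simpa [jac_apply, Matrix.mul_apply, Matrix.smul_apply] using h1
  have h2 := congrArg Matrix.det key
  rwa [Matrix.det_smul, Fintype.card_fin, Matrix.det_mul, ← RingHom.mapMatrix_apply,
    ← RingHom.map_det] at h2

/-- Cramer. -/
theorem det_mul_mem_span (f g : Fin N → R) (M : Matrix (Fin N) (Fin N) R)
    (h : ∀ i, f i = ∑ j, M i j * g j) (j : Fin N) : M.det * g j ∈ Ideal.span (Set.range f) := by
  have h1 : M.adjugate.mulVec f = M.det • g := by
    have : f = M.mulVec g := funext h
    rw [this, Matrix.mulVec_mulVec, Matrix.adjugate_mul, Matrix.smul_mulVec, Matrix.one_mulVec]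
  have h2 := congrFun h1 j
  simp only [Matrix.mulVec, dotProduct, Pi.smul_apply, smul_eq_mul] at h2
  rw [← h2]
  exact Ideal.sum_mem _ fun i _ => Ideal.mul_mem_left _ _ (Ideal.subset_span ⟨i, rfl⟩)

theorem ofList_ofFn (f : Fin N → R) : Ideal.ofList (List.ofFn f) = Ideal.span (Set.range f) := by
  refine congrArg Ideal.span (Set.ext fun x => ?_)
  exact List.mem_ofFn' f x

theorem derivation_mem_of_sq [IsLocalRing R] (D : Derivation ℤ R R) {x : R}
    (hx : x ∈ maximalIdeal R ^ 2) : D x ∈ maximalIdeal R := by
  rw [sq] at hx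
  refine Submodule.mul_induction_on hx (fun a ha b hb => ?_) fun a b ha hb => ?_
  · rw [Derivation.leibniz, smul_eq_mul, smul_eq_mul]
    exact add_mem (Ideal.mul_mem_right _ _ ha) (Ideal.mul_mem_right _ _ hb)
  · rw [map_add]
    exact add_mem ha hb

/-- Elements with an invertible Jacobian are linearly independent in the cotangent space. -/
theorem li_of_isUnit_det [IsLocalRing R] (D : Fin N → Derivation ℤ R R) (f : Fin N → R)
    (hf : ∀ i, f i ∈ maximalIdeal R) (hu : IsUnit (jac D (RingHom.id R) f).det) (c : Fin N → R)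
    (hc : ∑ i, c i * f i ∈ maximalIdeal R ^ 2) (i : Fin N) : c i ∈ maximalIdeal R := by
  have h1 : ∀ k, ∑ i, c i * D k (f i) ∈ maximalIdeal R := fun k => by
    have h2 := derivation_mem_of_sq (D k) hc
    rw [map_sum] at h2
    simp only [Derivation.leibniz, smul_eq_mul, Finset.sum_add_distrib] at h2
    exact (add_mem_cancel_right (Ideal.sum_mem _ fun i _ => Ideal.mul_mem_right _ _ (hf i))).1 h2
  let π := residue R
  have hu' : IsUnit (jac D π f).det := by
    rw [det_jac_eq]
    exact hu.map π
  have h3 : Matrix.vecMul (fun i => π (c i)) (jac D π f) = 0 := funext fun k => by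
    show ∑ i, π (c i) * π (D k (f i)) = 0
    simp only [← map_mul]
    rw [← map_sum]
    exact (residue_eq_zero_iff _).2 (h1 k)
  have h4 := Matrix.eq_zero_of_vecMul_eq_zero hu'.ne_zero h3
  exact (residue_eq_zero_iff _).1 (congrFun h4 i)

/-- Elements independent in the cotangent space form a regular sequence with regular quotient. -/
theorem isRegular_of_li : ∀ (N : ℕ) (R : Type u) [CommRing R] [IsRegularLocalRing R] (f : Fin N → R),
    (∀ i, f i ∈ maximalIdeal R) →
    (∀ c : Fin N → R, ∑ i, c i * f i ∈ maximalIdeal R ^ 2 → ∀ i, c i ∈ maximalIdeal R) →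
    IsRegular R (List.ofFn f) ∧ IsRegularLocalRing (R ⧸ Ideal.span (Set.range f)) := by
  intro N
  induction N with
  | zero =>
    intro R _ _ f _ _
    refine ⟨by rw [List.ofFn_zero]; exact IsRegular.nil R R, ?_⟩
    exact IsRegularLocalRing.of_ringEquiv ((RingEquiv.quotientBot R).symm.trans
      (Ideal.quotEquivOfEq (by simp)))
  | succ N ih =>
    intro R _ _ f hf hli
    have hsq : f 0 ∉ maximalIdeal R ^ 2 := fun h => by
      have := hli (fun i => if i = 0 then 1 else 0) (by simpa using h) 0
      simp at this
    have hne : f 0 ≠ 0 := fun h => hsq (h ▸ zero_mem _)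
    haveI := CommAlgDim.isDomain_of_isRegularLocalRing R
    haveI := CommAlgDim.isRegularLocalRing_quotient_singleton (hf 0) hsq
    set π := Ideal.Quotient.mk (Ideal.span {f 0})
    have hm : maximalIdeal (R ⧸ Ideal.span {f 0}) = (maximalIdeal R).map π :=
      (IsLocalRing.map_maximalIdeal_of_surjective π Ideal.Quotient.mk_surjective).symm
    obtain ⟨h1, h2⟩ := ih (R ⧸ Ideal.span {f 0}) (fun i => π (f i.succ))
      (fun i => by rw [hm]; exact Ideal.mem_map_of_mem _ (hf _)) (fun c hc => by
        choose c' hc' using fun i => Ideal.Quotient.mk_surjective (c i)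
        have e : π (∑ i, c' i * f i.succ) = ∑ i, c i * π (f i.succ) := by
          rw [map_sum]
          exact Finset.sum_congr rfl fun i _ => by rw [map_mul, hc']
        rw [← e, hm, ← Ideal.map_pow, ← Ideal.mem_comap,
          Ideal.comap_map_of_surjective π Ideal.Quotient.mk_surjective, ← RingHom.ker_eq_comap_bot,
          Ideal.mk_ker] at hc
        obtain ⟨a, ha, b, hb, hab⟩ := Submodule.mem_sup.1 hc
        obtain ⟨r, rfl⟩ := Ideal.mem_span_singleton'.1 hb
        intro i
        rw [← hc', hm]
        refine Ideal.mem_map_of_mem _ ?_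
        have := hli (Fin.cons (-r) c') (by
          rw [Fin.sum_univ_succ]
          simp only [Fin.cons_zero, Fin.cons_succ]
          rw [← hab]
          convert ha using 1
          ring) i.succ
        simpa using this)
    refine ⟨?_, ?_⟩
    · rw [List.ofFn_succ]
      exact CommAlgDim.isRegular_cons_ring.2 ⟨CommAlgDim.isSMulRegular_of_ne_zero hne,
        by rw [List.map_ofFn]; exact h1⟩
    · have hle : Ideal.span {f 0} ≤ Ideal.span (Set.range f) :=
        Ideal.span_mono (by rintro _ rfl; exact ⟨0, rfl⟩)
      have e : (Ideal.span (Set.range f)).map π = Ideal.span (Set.range fun i : Fin N => π (f i.succ)) := by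
        rw [Ideal.map_span]
        refine le_antisymm (Ideal.span_le.2 ?_) (Ideal.span_mono ?_)
        · rintro _ ⟨_, ⟨i, rfl⟩, rfl⟩
          induction i using Fin.cases with
          | zero =>
            rw [show π (f 0) = 0 from Ideal.Quotient.eq_zero_iff_mem.2 (Ideal.subset_span rfl)]
            exact zero_mem _
          | succ i => exact Ideal.subset_span ⟨i, rfl⟩
        · rintro _ ⟨i, rfl⟩
          exact ⟨_, ⟨i.succ, rfl⟩, rfl⟩
      exact IsRegularLocalRing.of_ringEquiv
        ((Ideal.quotEquivOfEq e.symm).trans (DoubleQuot.quotQuotEquivQuotOfLE hle))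

theorem isExactK_ofFn (f : Fin N → R) (h : IsWeaklyRegular R (List.ofFn f)) :
    KoszDetLib.IsExactK f := by
  have key : ∀ {n m : ℕ} (e : n = m) (f : Fin n → R) (g : Fin m → R),
      (∀ i, f i = g (Fin.cast e i)) → KoszDetLib.IsExactK g → KoszDetLib.IsExactK f := by
    intro n m e f g hfg hg
    subst e
    rwa [show f = g from funext hfg]
  exact key (List.length_ofFn (f := f)).symm f _ (fun i => by simp)
    (KRLib.isExactK_of_isWeaklyRegular _ h)

/-- Derivations extend to localisations. -/
theorem exists_loc_der (M : Submonoid R) (S : Type v) [CommRing S] [Algebra R S] [IsLocalization M S]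
    (D : Derivation ℤ R R) :
    ∃ D' : Derivation ℤ S S, ∀ r, D' (algebraMap R S r) = algebraMap R S (D r) :=
  NagataLib.exists_extend M S ((Algebra.linearMap R S).compDer D)

/-- Regularity of `f` at a prime where its Jacobian is invertible. -/
theorem regular_at [IsRegularRing R] (D : Fin N → Derivation ℤ R R) (Q : Ideal R) [Q.IsPrime]
    (f : Fin N → R) (hf : ∀ i, f i ∈ Q) (hu : (jac D (RingHom.id R) f).det ∉ Q) :
    IsRegular (Localization.AtPrime Q) (List.ofFn fun i => algebraMap R (Localization.AtPrime Q) (f i)) ∧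
    IsRegularLocalRing (Localization.AtPrime Q ⧸
      Ideal.span (Set.range fun i => algebraMap R (Localization.AtPrime Q) (f i))) := by
  let S := Localization.AtPrime Q
  choose D' hD' using fun j => exists_loc_der Q.primeCompl S (D j)
  have hfm : ∀ i, algebraMap R S (f i) ∈ maximalIdeal S := fun i =>
    (IsLocalization.AtPrime.to_map_mem_maximal_iff S Q (f i)).2 (hf i)
  have hu' : IsUnit (jac D' (RingHom.id S) fun i => algebraMap R S (f i)).det := by
    have e : (jac D' (RingHom.id S) fun i => algebraMap R S (f i)) = jac D (algebraMap R S) f := by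
      refine Matrix.ext fun i j => ?_
      exact hD' j (f i)
    rw [e, det_jac_eq]
    exact IsLocalization.map_units S (⟨_, hu⟩ : Q.primeCompl)
  exact isRegular_of_li N S _ hfm (li_of_isUnit_det D' _ hfm hu')

end PurityRamLib
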