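import Groth.Agent.PurityRamLib.Extend
import Groth.Agent.PurityRamLib.Dim2
import Groth.Agent.TransLib.RelField
import Groth.Agent.CommAlgDim.Integral
import Groth.Agent.NormalLib.CompleteLocal

/-! # Points étale on the punctured spectrum, over a complete regular local base -/

set_option autoImplicit false
set_option linter.all false
set_option maxHeartbeats 1000000
noncomputable section
universe u

open IsLocalRing
open scoped nonZeroDivisors

namespace PurityRamLib

attribute [local instance 10000] Ring.toIntAlgebra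

variable {A : Type u} [CommRing A] [IsLocalRing A] {B : Type u} [CommRing B] [IsLocalRing B] {n : ℕ}

/-- Equidimensionality and algebraicity of the residue field. -/
def Concl (ψ : MvPolynomial (Fin n) A →+* B) : Prop :=
  ringKrullDim B = ringKrullDim A ∧
    ∀ y : B, ∃ H : Polynomial A, H.Monic ∧ H.eval₂ (ψ.comp MvPolynomial.C) y ∈ maximalIdeal B

/-- An invertible Jacobian makes the point closed in the fibre. -/
theorem of_unit_jac [IsNoetherianRing A] (ψ : MvPolynomial (Fin n) A →+* B) (hψ : LocSurj ψ)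
    (hm : (maximalIdeal B).comap (ψ.comp MvPolynomial.C) = maximalIdeal A)
    (x : Fin n → MvPolynomial (Fin n) A) (hx : ∀ i, ψ (x i) = 0) (hu : IsUnit (jac pd ψ x).det) :
    ((maximalIdeal A).height + n ≤ ((maximalIdeal B).comap ψ).height) ∧
      ∀ y : B, ∃ H : Polynomial A, H.Monic ∧ H.eval₂ (ψ.comp MvPolynomial.C) y ∈ maximalIdeal B := by
  classical
  let R := MvPolynomial (Fin n) A
  let k := ResidueField A
  let π : R →+* MvPolynomial (Fin n) k := MvPolynomial.map (residue A)
  have hπ : Function.Surjective π := MvPolynomial.map_surjective (residue A) residue_surjective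
  let m' := (maximalIdeal B).comap ψ
  have hCm : ∀ a, a ∈ maximalIdeal A → MvPolynomial.C a ∈ m' := fun a ha => by
    rw [← hm] at ha
    exact ha
  have hkerπ : RingHom.ker π = (maximalIdeal A).map (MvPolynomial.C (σ := Fin n)) := by
    show RingHom.ker (MvPolynomial.map (residue A)) = _
    rw [MvPolynomial.ker_map, ker_residue]
  have hle : RingHom.ker π ≤ m' := by
    rw [hkerπ, Ideal.map_le_iff_le_comap]
    exact hCm
  let q := m'.map π
  haveI hq : q.IsPrime := Ideal.map_isPrime_of_surjective hπ hle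
  have hcomap : q.comap π = m' := by
    rw [Ideal.comap_map_of_surjective π hπ, ← RingHom.ker_eq_comap_bot, sup_eq_left.2 hle]
  have hdet : (jac pd (RingHom.id _) fun i => π (x i)).det ∉ q := by
    have e : (jac pd (RingHom.id (MvPolynomial (Fin n) k)) fun i => π (x i)) = jac pd π x :=
      Matrix.ext fun i j => MvPolynomial.pderiv_map
    rw [e, det_jac_eq, ← Ideal.mem_comap, hcomap]
    show ψ (jac pd (RingHom.id R) x).det ∉ maximalIdeal B
    rw [← det_jac_eq]
    exact notMem_maximalIdeal.2 hu
  have hxq : ∀ i, π (x i) ∈ q := fun i => Ideal.mem_map_of_mem π (by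
    show ψ (x i) ∈ maximalIdeal B
    rw [hx]; exact zero_mem _)
  obtain ⟨hreg, -⟩ := regular_at pd q (fun i => π (x i)) hxq hdet
  have h1 := ringKrullDim_add_length_eq_ringKrullDim_of_isRegular _ hreg
  rw [List.length_ofFn, IsLocalization.AtPrime.ringKrullDim_eq_height q (Localization.AtPrime q)] at h1
  have hnq : (n : ℕ∞) ≤ q.height := by
    have h2 : (0 : WithBot ℕ∞) + n ≤ q.height := by
      rw [← h1]
      gcongr
      haveI := CommAlgDim.nontrivial_quotient (show Ideal.ofList (List.ofFn fun i =>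
          algebraMap (MvPolynomial (Fin n) k) (Localization.AtPrime q) (π (x i))) ≠ ⊤ by
        rw [ofList_ofFn]
        refine ne_top_of_le_ne_top (maximalIdeal.isMaximal _).ne_top (Ideal.span_le.2 ?_)
        rintro _ ⟨i, rfl⟩
        exact (IsLocalization.AtPrime.to_map_mem_maximal_iff _ q _).2 (hxq i))
      exact ringKrullDim_nonneg_of_nontrivial
    rw [zero_add] at h2
    exact_mod_cast h2
  haveI hqmax : q.IsMaximal := by
    have h2 := TransLib.ringKrullDim_quotient_add_height_mvPolynomial k n q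
    obtain ⟨d, e, hd, he, hde⟩ := TransLib.exists_nat_of_add_le (ringKrullDim_nonneg_of_nontrivial.trans_lt'
      (WithBot.bot_lt_coe 0)).ne' h2.le
    rw [he] at hnq
    norm_cast at hnq
    haveI : Ring.KrullDimLE 0 (MvPolynomial (Fin n) k ⧸ q) := Ring.krullDimLE_iff.2 (by
      rw [hd]
      have : d = 0 := by omega
      rw [this])
    exact Ideal.Quotient.maximal_of_isField _ Ring.KrullDimLE.isField_of_isDomain
  refine ⟨?_, fun y => ?_⟩
  · haveI : m'.IsPrime := Ideal.comap_isPrime _ _
    haveI : m'.LiesOver (maximalIdeal A) := ⟨(by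
      rw [Ideal.under_def, MvPolynomial.algebraMap_eq]
      exact hm.symm : maximalIdeal A = m'.under A)⟩
    haveI : Algebra.HasGoingDown A (MvPolynomial (Fin n) A) := Algebra.HasGoingDown.of_flat
    rw [Ideal.height_eq_height_add_of_liesOver_of_hasGoingDown (maximalIdeal A) m']
    gcongr
    refine hnq.trans (le_of_eq ?_)
    let e : MvPolynomial (Fin n) A ⧸ (maximalIdeal A).map (algebraMap A (MvPolynomial (Fin n) A)) ≃+* MvPolynomial (Fin n) k :=
      (Ideal.quotEquivOfEq hkerπ.symm).trans (RingHom.quotientKerEquivOfSurjective hπ)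
    rw [← RingEquiv.height_map e]
    show _ = Ideal.height (Ideal.map e.toRingHom _)
    rw [Ideal.map_map]
    rfl
  · haveI : m'.IsMaximal := hcomap ▸ Ideal.comap_isMaximal_of_surjective π hπ
    -- a representative of the residue class
    obtain ⟨z, t, ht, hzt⟩ := hψ y
    have htm : t ∉ m' := fun h => (mem_maximalIdeal _).1 h ht
    obtain ⟨t', i, hi, hti⟩ := Ideal.IsMaximal.exists_inv ‹m'.IsMaximal› htm
    have hyz : y - ψ (t' * z) ∈ maximalIdeal B := by
      have h3 : y - ψ (t' * z) = ψ i * y := by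
        have h4 := congrArg (fun w => ψ w * y) hti
        simp only [map_add, map_mul, map_one, one_mul] at h4
        rw [map_mul, ← hzt]
        linear_combination -h4
      rw [h3]
      exact Ideal.mul_mem_right _ _ hi
    let F := MvPolynomial (Fin n) k ⧸ q
    letI : Field F := Ideal.Quotient.field q
    haveI : Algebra.FiniteType k F := Algebra.FiniteType.of_surjective (Ideal.Quotient.mkₐ k q) Ideal.Quotient.mk_surjective
    haveI : Module.Finite k F := finite_of_finite_type_of_isJacobsonRing k F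
    obtain ⟨H₀, hH₀m, hH₀⟩ := IsIntegral.of_finite k (Ideal.Quotient.mk q (π (t' * z)))
    obtain ⟨H, hH, -, hHm⟩ := Polynomial.lifts_and_degree_eq_and_monic
      (Polynomial.mem_lifts_of_surjective residue_surjective H₀) hH₀m
    refine ⟨H, hHm, ?_⟩
    have hmem : H.eval₂ MvPolynomial.C (t' * z) ∈ m' := by
      rw [← hcomap, Ideal.mem_comap, ← Ideal.Quotient.eq_zero_iff_mem, Polynomial.hom_eval₂,
        Polynomial.hom_eval₂]
      rw [← hH, Polynomial.eval₂_map] at hH₀
      refine (congrArg (fun φ => Polynomial.eval₂ φ _ H) (RingHom.ext fun a => ?_)).trans hH₀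
      show Ideal.Quotient.mk q (π (MvPolynomial.C a)) = algebraMap k F (residue A a)
      rw [show π (MvPolynomial.C a) = MvPolynomial.C (residue A a) from MvPolynomial.map_C _ _]
      rfl
    rw [Ideal.mem_comap, Polynomial.hom_eval₂] at hmem
    rw [← residue_eq_zero_iff, Polynomial.hom_eval₂] at hmem ⊢
    rwa [show residue B y = residue B (ψ (t' * z)) from sub_eq_zero.1 (by
      rw [← map_sub]; exact (residue_eq_zero_iff _).2 hyz)]

section Two

variable [IsDomain B] [IsNoetherianRing B] [IsIntegrallyClosed B]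

/-- The two-dimensional case. -/
theorem concl_two [IsRegularLocalRing A] [IsAdicComplete (maximalIdeal A) A]
    (ψ : MvPolynomial (Fin n) A →+* B) (hψ : LocSurj ψ)
    (hm : (maximalIdeal B).comap (ψ.comp MvPolynomial.C) = maximalIdeal A) (hd : ringKrullDim B = 2)
    (het : ∀ (Q : Ideal B) [Q.IsPrime], Q ≠ maximalIdeal B → Et pd ψ Q)
    (a : A) (ha : a ∈ maximalIdeal A) (ha2 : a ∉ maximalIdeal A ^ 2) : Concl ψ := by
  classical
  haveI := isRegularLocalRing_pt ψ
  haveI : (⊥ : Ideal B).IsPrime := Ideal.isPrime_bot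
  have hbne : (⊥ : Ideal B) ≠ maximalIdeal B := fun h => by
    have h2 := IsLocalRing.maximalIdeal_height_eq_ringKrullDim (R := B)
    rw [← h, Ideal.height_bot, hd] at h2
    exact absurd h2 (by norm_num)
  have hbot : Et pd ψ ⊥ := het ⊥ hbne
  let R := MvPolynomial (Fin n) A
  let aP : Pt ψ := algebraMap R (Pt ψ) (MvPolynomial.C a)
  have haP : aP ∈ maximalIdeal (Pt ψ) :=
    (IsLocalization.AtPrime.to_map_mem_maximal_iff (Pt ψ) ((maximalIdeal B).comap ψ) _).2 (by
      rw [← hm] at ha; exact ha)
  haveI : IsRegularLocalRing (Pt ψ ⧸ Ideal.span {aP}) := by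
    haveI := isRegularRing_quotient_C (n := n) a ha ha2
    have hle : Ideal.span {(MvPolynomial.C a : R)} ≤ (maximalIdeal B).comap ψ :=
      (Ideal.span_singleton_le_iff_mem _).2 (by rw [← hm] at ha; exact ha)
    obtain ⟨hp, ⟨e⟩⟩ := LiaisonLib.exists_quot_equiv hle
    haveI := hp
    exact IsRegularLocalRing.of_ringEquiv
      (R := Localization.AtPrime (((maximalIdeal B).comap ψ).map (Ideal.Quotient.mk (Ideal.span {(MvPolynomial.C a : R)}))))
      (e.symm.trans (Ideal.quotEquivOfEq (by rw [Ideal.map_span, Set.image_singleton])))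
  have hfin : IsReduced (B ⧸ Ideal.span {loc ψ aP}) → Module.Finite (B ⧸ Ideal.span {loc ψ aP})
      (integralClosure (B ⧸ Ideal.span {loc ψ aP}) (FractionRing (B ⧸ Ideal.span {loc ψ aP}))) := fun h => by
    haveI := h
    exact finite_normalisation _ (NagataFG.isNagata_of_surjective _ Ideal.Quotient.mk_surjective
      (isNagata_of_locSurj ψ (NormalLib.isNagata_of_isAdicComplete_local A) hψ))
  obtain ⟨-, G, hG, hu⟩ := dim_two (locDer ψ) (loc ψ) (loc_surjective ψ hψ) aP haP (fun j => locDer_C ψ j a)
    (by rw [loc_algebraMap]; exact param_ne_zero ψ hψ hbot a ha ha2) hd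
    (fun Q _ hQ => et_loc ψ Q (het Q hQ)) hfin
  have hGk : ∀ i, loc ψ (G i) = 0 := fun i => by
    have : G i ∈ RingHom.ker (loc ψ) := hG ▸ Ideal.subset_span ⟨i, rfl⟩
    exact this
  choose xt hxt using fun i => IsLocalization.surj ((maximalIdeal B).comap ψ).primeCompl (G i)
  let x : Fin n → R := fun i => (xt i).1
  have hxG : ∀ i, algebraMap R (Pt ψ) (x i) = algebraMap R (Pt ψ) (xt i).2 * G i := fun i => by
    rw [mul_comm]; exact (hxt i).symm
  have hx : ∀ i, ψ (x i) = 0 := fun i => by
    rw [← loc_algebraMap ψ, hxG, map_mul, hGk, mul_zero]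
  have htr := det_jac_trans (locDer ψ) (loc ψ) (fun i => algebraMap R (Pt ψ) (x i)) G
    (fun i => by rw [loc_algebraMap, hx]) hGk 1 (Matrix.diagonal fun i => algebraMap R (Pt ψ) (xt i).2)
    (fun i => by
      rw [one_mul, hxG, Finset.sum_eq_single i]
      · rw [Matrix.diagonal_apply_eq]
      · intro j _ hj; rw [Matrix.diagonal_apply_ne _ hj.symm, zero_mul]
      · intro h; exact absurd (Finset.mem_univ i) h)
  rw [map_one, one_pow, one_mul, jac_loc, Matrix.det_diagonal, map_prod] at htr
  have hux : IsUnit (jac pd ψ x).det := by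
    rw [htr]
    refine (IsUnit.prod_univ_iff.2 fun i => ?_).mul hu
    exact (IsLocalization.map_units (Pt ψ) (xt i).2).map (loc ψ)
  obtain ⟨hht, hres⟩ := of_unit_jac ψ hψ hm x hx hux
  refine ⟨le_antisymm (ringKrullDim_le ψ hψ hm hbot) ?_, hres⟩
  have h1 := ringKrullDim_add ψ hψ hbot
  rw [← IsLocalRing.maximalIdeal_height_eq_ringKrullDim (R := A)]
  rw [hd] at h1 ⊢
  have h2 : ((maximalIdeal A).height : WithBot ℕ∞) + (n : WithBot ℕ∞) ≤ 2 + n := by
    rw [h1]; exact_mod_cast hht
  revert h2
  generalize (maximalIdeal A).height = e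
  induction e using ENat.recTopCoe with
  | top => intro h2; exact absurd h2 (by
      rw [show ((n : ℕ) : WithBot ℕ∞) = (((n : ℕ) : ℕ∞) : WithBot ℕ∞) from rfl,
        show (2 : WithBot ℕ∞) = (((2 : ℕ) : ℕ∞) : WithBot ℕ∞) from rfl, ← WithBot.coe_add, ← WithBot.coe_add,
        WithBot.coe_le_coe, top_add, top_le_iff, ← Nat.cast_add]
      exact ENat.natCast_ne_top _)
  | coe e =>
    intro h2
    rw [show (2 : WithBot ℕ∞) = (((2 : ℕ) : ℕ∞) : WithBot ℕ∞) from rfl,
      show ((n : ℕ) : WithBot ℕ∞) = (((n : ℕ) : ℕ∞) : WithBot ℕ∞) from rfl, ← WithBot.coe_add, ← WithBot.coe_add,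
      WithBot.coe_le_coe, ← Nat.cast_add, ← Nat.cast_add, Nat.cast_le] at h2
    rw [show (2 : WithBot ℕ∞) = (((2 : ℕ) : ℕ∞) : WithBot ℕ∞) from rfl, WithBot.coe_le_coe, Nat.cast_le]
    omega

end Two

/-- Étale points over an integral extension which is rational on the punctured spectrum. -/
theorem et_normalisation {C : Type u} [CommRing C] [IsLocalRing C] {K : Type u} [CommRing K] [Algebra C K]
    [Algebra.IsIntegral C K] (M : Ideal K) [M.IsMaximal] {L : Type u} [CommRing L] [IsLocalRing L] [Algebra K L]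
    [IsLocalization.AtPrime L M] (ψ₀ : MvPolynomial (Fin n) A →+* C)
    (hψ₀ : LocSurj ψ₀) (het₀ : ∀ (p : Ideal C) [p.IsPrime], p ≠ maximalIdeal C → Et pd ψ₀ p)
    (hrat : ∀ (p : Ideal C) [p.IsPrime], p ≠ maximalIdeal C → ∀ z : K, ∃ s r : C, s ∉ p ∧
      algebraMap C K s * z = algebraMap C K r)
    (hCK : Function.Injective (algebraMap C K)) {m : ℕ} (bs : Fin m → K) (ι : C →+* L)
    (hι : ∀ c, ι c = algebraMap K L (algebraMap C K c))
    (Q' : Ideal L) [Q'.IsPrime] (hQ' : Q' ≠ maximalIdeal L) :
    Et pd (ext' ψ₀ ι fun l => algebraMap K L (bs l)) Q' := by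
  let P := Q'.comap (algebraMap K L)
  haveI : P.IsPrime := Ideal.comap_isPrime _ _
  have hPM : P ≤ M := by
    rw [← IsLocalization.AtPrime.comap_maximalIdeal L M]
    exact Ideal.comap_mono (le_maximalIdeal Ideal.IsPrime.ne_top')
  haveI : (Q'.comap ι).IsPrime := Ideal.comap_isPrime _ _
  have hιP : ∀ c, c ∈ Q'.comap ι ↔ algebraMap C K c ∈ P := fun c => by
    rw [Ideal.mem_comap, hι, Ideal.mem_comap]
  have hp : Q'.comap ι ≠ maximalIdeal C := fun h => hQ' (by
    have hPmax : P.IsMaximal := Ideal.isMaximal_of_isIntegral_of_isMaximal_comap (R := C) P (by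
      rw [show P.comap (algebraMap C K) = Q'.comap ι from Ideal.ext fun c => (hιP c).symm, h]
      infer_instance)
    have hPeq : P = M := hPmax.eq_of_le (Ideal.IsMaximal.ne_top ‹_›) hPM
    rw [← IsLocalization.map_under M.primeCompl L Q', show Q'.under K = M from hPeq]
    refine le_antisymm (Ideal.map_le_iff_le_comap.2 (IsLocalization.AtPrime.comap_maximalIdeal L M).ge) ?_
    intro x hx
    obtain ⟨z, t, rfl⟩ := IsLocalization.exists_mk'_eq M.primeCompl x
    rw [IsLocalization.mk'_mem_map_algebraMap_iff]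
    exact ⟨1, Submonoid.one_mem _, by rw [one_mul]; exact (IsLocalization.AtPrime.mk'_mem_maximal_iff L M z t).1 hx⟩)
  refine et_extend ψ₀ ι (fun l => algebraMap K L (bs l)) hψ₀ Q' (het₀ (Q'.comap ι) hp) (fun l => ?_) fun c hc => ?_
  · obtain ⟨s, r, hs, hsr⟩ := hrat (Q'.comap ι) hp (bs l)
    obtain ⟨s', t₁, ht₁, hs'⟩ := hψ₀ s
    obtain ⟨r', t₂, ht₂, hr'⟩ := hψ₀ r
    refine ⟨s' * t₂, r' * t₁, ?_, ?_⟩
    · rw [map_mul, ← hs']
      exact fun h => hs ((Ideal.unit_mul_mem_iff_mem _ ht₁).1 ((Ideal.mul_unit_mem_iff_mem _ ht₂).1 h))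
    · have h1 : ι s * algebraMap K L (bs l) = ι r := by
        rw [hι, hι, ← map_mul, hsr]
      simp only [map_mul, ← hs', ← hr']
      linear_combination (ι (ψ₀ t₁) * ι (ψ₀ t₂)) * h1
  · rw [hι] at hc
    obtain ⟨u, hu⟩ := (IsLocalization.map_eq_zero_iff M.primeCompl L (algebraMap C K c)).1 hc
    obtain ⟨s, r, hs, hsr⟩ := hrat (Q'.comap ι) hp (u : K)
    refine ⟨r, fun hr => ?_, hCK ?_⟩
    · have h1 : algebraMap C K s * (u : K) ∈ P := by rw [hsr]; exact (hιP r).1 hr
      exact (Ideal.IsPrime.mem_or_mem inferInstance h1).elim (fun h => hs ((hιP s).2 h)) fun h => u.2 (hPM h)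
    · rw [map_mul, map_zero, ← hsr, mul_assoc, hu, mul_zero]

/-- Equidimensionality and residual algebraicity over a complete regular local ring. -/
theorem key : ∀ (d : ℕ) (A : Type u) [CommRing A] [IsRegularLocalRing A] [IsAdicComplete (maximalIdeal A) A]
    (B : Type u) [CommRing B] [IsDomain B] [IsNoetherianRing B] [IsLocalRing B] [IsIntegrallyClosed B]
    (n : ℕ) (ψ : MvPolynomial (Fin n) A →+* B), LocSurj ψ →
    (maximalIdeal B).comap (ψ.comp MvPolynomial.C) = maximalIdeal A →
    ringKrullDim B = d → 2 ≤ d →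
    (∀ (Q : Ideal B) [Q.IsPrime], Q ≠ maximalIdeal B → Et pd ψ Q) → Concl ψ := by
  intro d
  induction d with
  | zero => intros; omega
  | succ d ih =>
    intro A _ _ _ B _ _ _ _ _ n ψ hψ hm hd hd2 het
    haveI : (⊥ : Ideal B).IsPrime := Ideal.isPrime_bot
    have hbne : (⊥ : Ideal B) ≠ maximalIdeal B := fun h => by
      have h2 := IsLocalRing.maximalIdeal_height_eq_ringKrullDim (R := B)
      rw [← h, Ideal.height_bot, hd] at h2
      norm_cast at h2
    have hbot : Et pd ψ ⊥ := het ⊥ hbne
    have hmA : maximalIdeal A ≠ ⊥ := fun h => by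
      have h1 := ringKrullDim_le ψ hψ hm hbot
      have h2 := IsLocalRing.maximalIdeal_height_eq_ringKrullDim (R := A)
      haveI := CommAlgDim.isDomain_of_isRegularLocalRing A
      rw [h, Ideal.height_bot] at h2
      rw [hd, ← h2] at h1
      norm_cast at h1
    obtain ⟨a, ha, ha2, -⟩ := CommAlgDim.exists_mem_notMem_sq (R := A) Set.finite_empty (by simp) (by simp) hmA
    rcases Nat.lt_or_ge d 2 with hlt | hge
    · exact concl_two ψ hψ hm (by rw [hd]; norm_cast; omega) het a ha ha2
    haveI := CommAlgDim.isRegularLocalRing_quotient_singleton ha ha2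
    let A₀ := A ⧸ Ideal.span {a}
    haveI : IsAdicComplete (maximalIdeal A₀) A₀ := NormalLib.isAdicComplete_quotient_local _
    let mkA : A →+* A₀ := Ideal.Quotient.mk (Ideal.span {a})
    let R := MvPolynomial (Fin n) A
    let R₀ := MvPolynomial (Fin n) A₀
    let b₀ : B := ψ (MvPolynomial.C a)
    have hb0 : b₀ ≠ 0 := param_ne_zero ψ hψ hbot a ha ha2
    have hbm : b₀ ∈ maximalIdeal B := by rw [← hm] at ha; exact ha
    have hB2 : (2 : WithBot ℕ∞) ≤ ringKrullDim B := by rw [hd]; norm_cast
    let C := B ⧸ Ideal.span {b₀}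
    let mkC : B →+* C := Ideal.Quotient.mk (Ideal.span {b₀})
    have hb00 : mkC b₀ = 0 := Ideal.Quotient.eq_zero_iff_mem.2 (Ideal.mem_span_singleton_self _)
    haveI : IsRegularRing R := isRegularRing_mvPolynomial
    haveI := isRegularRing_quotient_C (n := n) a ha ha2
    have hcut := cut_props hb0 hbm hB2 fun Q _ hQ hne => by
      exact et_regular_quot ψ Q pd hψ (het Q hne) (MvPolynomial.C a) hQ hb0
        fun j => MvPolynomial.pderiv_C
    haveI : IsReduced C := hcut.1
    haveI : Nontrivial C := Ideal.Quotient.nontrivial_iff.2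
      (ne_top_of_le_ne_top (maximalIdeal.isMaximal B).ne_top ((Ideal.span_singleton_le_iff_mem _).2 hbm))
    haveI : IsLocalRing C := IsLocalRing.of_surjective' mkC Ideal.Quotient.mk_surjective
    haveI : Module.Finite C (integralClosure C (FractionRing C)) := finite_normalisation _
      (NagataFG.isNagata_of_surjective mkC Ideal.Quotient.mk_surjective
        (isNagata_of_locSurj ψ (NormalLib.isNagata_of_isAdicComplete_local A) hψ))
    -- the presentation of the section
    let φ₀ : A₀ →+* C := Ideal.Quotient.lift (Ideal.span {a}) (mkC.comp (ψ.comp MvPolynomial.C)) fun x hx => by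
      obtain ⟨c, rfl⟩ := Ideal.mem_span_singleton.1 hx
      simp only [map_mul, RingHom.comp_apply]
      rw [show mkC (ψ (MvPolynomial.C a)) = 0 from hb00, zero_mul]
    let ψ₀ : R₀ →+* C := MvPolynomial.eval₂Hom φ₀ fun i => mkC (ψ (MvPolynomial.X i))
    let mR : R →+* R₀ := MvPolynomial.map mkA
    have hmR : Function.Surjective mR := MvPolynomial.map_surjective mkA Ideal.Quotient.mk_surjective
    have hψ₀R : ∀ x, ψ₀ (mR x) = mkC (ψ x) := RingHom.congr_fun (show ψ₀.comp mR = mkC.comp ψ from
      MvPolynomial.ringHom_ext (fun c => by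
        show MvPolynomial.eval₂Hom φ₀ _ (MvPolynomial.map mkA (MvPolynomial.C c)) = _
        rw [MvPolynomial.map_C, MvPolynomial.eval₂Hom_C]
        rfl) (fun i => by
        show MvPolynomial.eval₂Hom φ₀ _ (MvPolynomial.map mkA (MvPolynomial.X i)) = _
        rw [MvPolynomial.map_X, MvPolynomial.eval₂Hom_X']
        rfl))
    have hψ₀ : LocSurj ψ₀ := fun c => by
      obtain ⟨y, rfl⟩ := Ideal.Quotient.mk_surjective c
      obtain ⟨x, t, ht, h⟩ := hψ y
      refine ⟨mR x, mR t, by rw [hψ₀R]; exact ht.map mkC, ?_⟩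
      rw [hψ₀R, hψ₀R, ← h, map_mul]
    have het₀ : ∀ (p : Ideal C) [p.IsPrime], p ≠ maximalIdeal C → Et pd ψ₀ p := by
      intro p _ hp
      have hQ : p.comap mkC ≠ maximalIdeal B := fun h => hp (by
        rw [← Ideal.map_comap_of_surjective mkC Ideal.Quotient.mk_surjective p, h]
        exact IsLocalRing.map_maximalIdeal_of_surjective mkC Ideal.Quotient.mk_surjective)
      obtain ⟨g, hg, hdet, hgen⟩ := het (p.comap mkC) hQ
      refine ⟨fun i => mR (g i), fun i => by rw [hψ₀R, hg, map_zero], ?_, fun x hx => ?_⟩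
      · have e : (jac pd ψ₀ fun i => mR (g i)) = (jac pd ψ g).map mkC := Matrix.ext fun i j => by
          show ψ₀ (MvPolynomial.pderiv j (MvPolynomial.map mkA (g i))) = mkC (ψ (MvPolynomial.pderiv j (g i)))
          rw [MvPolynomial.pderiv_map]
          exact hψ₀R _
        rw [e, ← RingHom.mapMatrix_apply, ← RingHom.map_det]
        exact hdet
      · obtain ⟨x, rfl⟩ := hmR x
        rw [hψ₀R, Ideal.Quotient.eq_zero_iff_mem, Ideal.mem_span_singleton] at hx
        obtain ⟨y, hy⟩ := hx
        obtain ⟨u, t, ht, hu⟩ := hψ y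
        obtain ⟨w, hw, hwx⟩ := hgen (t * x - MvPolynomial.C a * u) (by
          rw [map_sub, map_mul, map_mul, hy, ← hu]; ring)
        refine ⟨mR (w * t), ?_, ?_⟩
        · rw [hψ₀R, ← Ideal.mem_comap, map_mul]
          exact fun h => (Ideal.IsPrime.mem_or_mem inferInstance h).elim hw
            fun h' => Ideal.IsPrime.ne_top' (Ideal.eq_top_of_isUnit_mem _ h' ht)
        · have h1 := Ideal.mem_map_of_mem mR hwx
          rw [Ideal.map_span, ← Set.range_comp, map_mul, map_sub, map_mul, map_mul,
            show mR (MvPolynomial.C a) = 0 from by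
              rw [show mR (MvPolynomial.C a) = MvPolynomial.C (mkA a) from MvPolynomial.map_C _ _,
                show mkA a = 0 from Ideal.Quotient.eq_zero_iff_mem.2 (Ideal.mem_span_singleton_self _), map_zero],
            zero_mul, sub_zero, ← mul_assoc, ← map_mul] at h1
          exact h1
    -- dimensions
    have hdC : ringKrullDim C = d := by
      have h := ringKrullDim_quotient_span_singleton_succ_eq_ringKrullDim
        (IsSMulRegular.of_right_eq_zero_of_smul fun z hz => (mul_eq_zero.1 hz).resolve_left hb0) hbm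
      obtain ⟨e, he⟩ := CommAlgDim.exists_ringKrullDim_eq (R := C)
      rw [hd, show ringKrullDim (B ⧸ Ideal.span {b₀}) = _ from he] at h
      rw [he]
      norm_cast at h ⊢
      omega
    let K := integralClosure C (FractionRing C)
    have hCK : Function.Injective (algebraMap C K) := fun x y h =>
      IsLocalization.injective (FractionRing C) le_rfl (congrArg Subtype.val h)
    haveI : IsNoetherianRing K := IsNoetherianRing.of_finite C K
    have hdK : ringKrullDim K = d := (CommAlgDim.ringKrullDim_eq_of_integral C K hCK).trans hdC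
    obtain ⟨M, hM, hMht⟩ : ∃ M : Ideal K, M.IsMaximal ∧ M.height = d := by
      haveI : Nontrivial K := ⟨⟨0, 1, fun h => zero_ne_one (hCK (by rw [map_zero, map_one]; exact h))⟩⟩
      haveI : FiniteRingKrullDim K := finiteRingKrullDim_iff_ne_bot_and_top.2
        ⟨by rw [hdK]; exact WithBot.natCast_ne_bot d, by rw [hdK]; exact fun h => ENat.natCast_ne_top d (WithBot.coe_inj.1 h)⟩
      obtain ⟨M, hM, h⟩ := Ideal.exists_isMaximal_height (R := K)
      exact ⟨M, hM, WithBot.coe_inj.1 (h.trans hdK)⟩
    haveI := hM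
    let B' := Localization.AtPrime M
    obtain ⟨hdom, hic⟩ := locNormal_normalisation C M
    haveI := hdom
    haveI := hic
    haveI : IsNoetherianRing B' := IsLocalization.isNoetherianRing M.primeCompl _ inferInstance
    have hMC : M.comap (algebraMap C K) = maximalIdeal C :=
      IsLocalRing.eq_maximalIdeal (Ideal.isMaximal_comap_of_isIntegral_of_isMaximal M)
    let ι : C →+* B' := (algebraMap K B').comp (algebraMap C K)
    have hιm : (maximalIdeal B').comap ι = maximalIdeal C := by
      rw [← Ideal.comap_comap, show (maximalIdeal B').comap (algebraMap K B') = M from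
        IsLocalization.AtPrime.comap_maximalIdeal B' M, hMC]
    obtain ⟨m, bs, hbs⟩ := Module.Finite.exists_fin (R := C) (M := K)
    let b : Fin m → B' := fun l => algebraMap K B' (bs l)
    let ψ' := ext' ψ₀ ι b
    have hψ' : LocSurj ψ' := by
      have hspan : ∀ z : K, ∃ x t, IsUnit (ψ₀ t) ∧ ι (ψ₀ t) * algebraMap K B' z = ψ' x := by
        intro z
        have hz : z ∈ Submodule.span C (Set.range bs) := hbs ▸ Submodule.mem_top
        induction hz using Submodule.span_induction with
        | mem z hz =>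
          obtain ⟨l, rfl⟩ := hz
          exact ⟨MvPolynomial.X (Fin.natAdd n l), 1, by rw [map_one]; exact isUnit_one,
            by rw [map_one, map_one, one_mul, ext'_X_natAdd]⟩
        | zero => exact ⟨0, 1, by rw [map_one]; exact isUnit_one, by rw [map_zero, map_zero, mul_zero]⟩
        | add z w _ _ hz hw =>
          obtain ⟨x, t, ht, hx⟩ := hz
          obtain ⟨y, s, hs, hy⟩ := hw
          refine ⟨MvPolynomial.rename (Fin.castAdd m) s * x + MvPolynomial.rename (Fin.castAdd m) t * y, t * s,
            by rw [map_mul]; exact ht.mul hs, ?_⟩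
          rw [map_add ψ', map_mul ψ', map_mul ψ', ext'_rename, ext'_rename, ← hx, ← hy, map_mul, map_mul, map_add]
          ring
        | smul c z _ hz =>
          obtain ⟨x, t, ht, hx⟩ := hz
          obtain ⟨y, s, hs, hy⟩ := hψ₀ c
          refine ⟨MvPolynomial.rename (Fin.castAdd m) y * x, t * s, by rw [map_mul]; exact ht.mul hs, ?_⟩
          rw [map_mul ψ', ext'_rename, ← hy, ← hx, map_mul, map_mul, map_mul, Algebra.smul_def, map_mul]
          ring!
      intro w
      obtain ⟨z, u, rfl⟩ := IsLocalization.exists_mk'_eq M.primeCompl w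
      obtain ⟨x, t, ht, hx⟩ := hspan z
      obtain ⟨y, s, hs, hy⟩ := hspan u
      refine ⟨x * MvPolynomial.rename (Fin.castAdd m) s, MvPolynomial.rename (Fin.castAdd m) t * y, ?_, ?_⟩
      · rw [map_mul, ext'_rename, ← hy]
        exact (ht.map ι).mul ((hs.map ι).mul (IsLocalization.map_units B' u))
      · rw [map_mul, map_mul, ext'_rename, ext'_rename, ← hy, ← hx, ← IsLocalization.mk'_spec B' z u]
        ring
    have hm' : (maximalIdeal B').comap (ψ'.comp MvPolynomial.C) = maximalIdeal A₀ := by
      have e : ψ'.comp MvPolynomial.C = ι.comp φ₀ := RingHom.ext fun x => by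
        show ψ' (MvPolynomial.C x) = _
        rw [ext'_C]
        show ι (MvPolynomial.eval₂Hom φ₀ _ (MvPolynomial.C x)) = _
        rw [MvPolynomial.eval₂Hom_C]
        rfl
      rw [e, ← Ideal.comap_comap, hιm]
      haveI : ((maximalIdeal C).comap φ₀).IsPrime := Ideal.comap_isPrime _ _
      refine le_antisymm (le_maximalIdeal Ideal.IsPrime.ne_top') fun x hx => ?_
      obtain ⟨x, rfl⟩ := Ideal.Quotient.mk_surjective x
      rw [← IsLocalRing.map_maximalIdeal_of_surjective mkA Ideal.Quotient.mk_surjective,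
        ← Ideal.mem_comap, Ideal.comap_map_of_surjective _ Ideal.Quotient.mk_surjective,
        ← RingHom.ker_eq_comap_bot, Ideal.mk_ker,
        sup_eq_left.2 ((Ideal.span_singleton_le_iff_mem _).2 ha), ← hm] at hx
      show mkC (ψ (MvPolynomial.C x)) ∈ maximalIdeal C
      rw [← IsLocalRing.map_maximalIdeal_of_surjective mkC Ideal.Quotient.mk_surjective]
      exact Ideal.mem_map_of_mem _ hx
    have hrat : ∀ (p : Ideal C) [p.IsPrime], p ≠ maximalIdeal C → ∀ z : K, ∃ s r : C, s ∉ p ∧
        algebraMap C K s * z = algebraMap C K r := by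
      intro p _ hp z
      haveI := hcut.2 p fun h => hp (IsLocalRing.eq_maximalIdeal h)
      haveI := CommAlgDim.isDomain_of_isRegularLocalRing (Localization.AtPrime p)
      haveI := NormalLib.isIntegrallyClosed_of_isRegularLocalRing (Localization.AtPrime p)
      exact exists_mul_mem p z
    have hι : ∀ c, ι c = algebraMap K B' (algebraMap C K c) := fun c => RingHom.comp_apply _ _ _
    have het' : ∀ (Q' : Ideal B') [Q'.IsPrime], Q' ≠ maximalIdeal B' → Et pd ψ' Q' := by
      intro Q' _ hQ'
      have i1 : Algebra.IsIntegral C K := inferInstance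
      have i2 : IsLocalization.AtPrime B' M := inferInstance
      have e1 := et_normalisation (K := K) (L := B') M ψ₀ hψ₀
      have e2 := e1 het₀
      have e3 := e2 hrat
      exact e3 hCK bs ι hι Q' hQ'
    have hd' : ringKrullDim B' = (d : WithBot ℕ∞) := by
      rw [IsLocalization.AtPrime.ringKrullDim_eq_height M B', hMht]
      rfl
    obtain ⟨hdim, hres⟩ := ih A₀ B' (n + m) ψ' hψ' hm' hd' hge het'
    refine ⟨?_, fun y => ?_⟩
    · have h1 := CommAlgDim.ringKrullDim_quotient_add_of_regular_quotient (J := Ideal.span {a})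
      have hsf : (Ideal.span {a}).spanFinrank = 1 := by
        refine le_antisymm ((Submodule.spanFinrank_span_le_ncard_of_finite (Set.finite_singleton a)).trans_eq
          (Set.ncard_singleton a)) (Nat.one_le_iff_ne_zero.2 fun h => ?_)
        rw [Submodule.spanFinrank_eq_zero_iff_eq_bot (IsNoetherian.noetherian _), Ideal.span_singleton_eq_bot] at h
        exact ha2 (h ▸ zero_mem _)
      rw [hd, ← h1, hsf, show ringKrullDim (A ⧸ Ideal.span {a}) = _ from hdim.symm.trans hd']
      norm_cast
    · obtain ⟨H₀, hH₀m, hH₀⟩ := hres (ι (mkC y))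
      obtain ⟨H, hH, -, hHm⟩ := Polynomial.lifts_and_degree_eq_and_monic
        (Polynomial.mem_lifts_of_surjective (f := mkA) Ideal.Quotient.mk_surjective H₀) hH₀m
      refine ⟨H, hHm, ?_⟩
      rw [← hH, Polynomial.eval₂_map,
        show (ψ'.comp MvPolynomial.C).comp mkA = ι.comp (mkC.comp (ψ.comp MvPolynomial.C)) from RingHom.ext fun x => by
          show ψ' (MvPolynomial.C (mkA x)) = _
          rw [ext'_C]
          show ι (ψ₀ (MvPolynomial.C (mkA x))) = _
          rw [← show mR (MvPolynomial.C x) = MvPolynomial.C (mkA x) from MvPolynomial.map_C _ _, hψ₀R]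
          rfl,
        ← RingHom.comp_assoc, ← RingHom.comp_apply ι mkC y, ← Polynomial.hom_eval₂, ← Ideal.mem_comap,
        ← Ideal.comap_comap, hιm] at hH₀
      have := Ideal.comap_isMaximal_of_surjective mkC Ideal.Quotient.mk_surjective (K := maximalIdeal C)
      rw [IsLocalRing.eq_maximalIdeal this] at hH₀
      exact hH₀

end PurityRamLib
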