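import Groth.Agent.PurityRamLib.Jac
import Groth.Agent.CatLib.CM

/-! # Existence of the trace element at regular points -/

set_option autoImplicit false
noncomputable section
universe u

open IsLocalRing RingTheory.Sequence

namespace PurityRamLib

variable {R : Type u} [CommRing R] {K : Type u} [CommRing K] {N : ℕ}

/-- Near every minimal prime of the target the kernel is generated by `f`. -/
def Gen (θ : R →+* K) (f : Fin N → R) : Prop :=
  ∀ p ∈ minimalPrimes K, ∀ x, θ x = 0 → ∃ w, θ w ∉ p ∧ w * x ∈ Ideal.span (Set.range f)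

/-- Every multiple of the Jacobian is the value of an element killing the kernel modulo `f`. -/
def Good (D : Fin N → Derivation ℤ R R) (θ : R →+* K) (f : Fin N → R) : Prop :=
  ∀ u : K, ∃ v : R, (∀ x, θ x = 0 → v * x ∈ Ideal.span (Set.range f)) ∧ θ v = (jac D θ f).det * u

theorem exists_notMem_mul_eq_zero [IsReduced K] {p : Ideal K} (hp : p ∈ minimalPrimes K) {y : K}
    (hy : y ∈ p) : ∃ w, w ∉ p ∧ w * y = 0 := by
  haveI := hp.1.1
  let S := Localization.AtPrime p
  haveI : Ring.KrullDimLE 0 S := Ring.KrullDimLE.of_isLocalization p hp S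
  have hF : IsField S := Ring.KrullDimLE.isField_of_isReduced
  have h0 : algebraMap K S y = 0 := by
    by_contra hne
    obtain ⟨z, hz⟩ := hF.mul_inv_cancel hne
    have hu : IsUnit (algebraMap K S y) := IsUnit.of_mul_eq_one z hz
    exact (IsLocalization.AtPrime.isUnit_to_map_iff S p y).1 hu hy
  obtain ⟨w, hw⟩ := (IsLocalization.map_eq_zero_iff p.primeCompl S y).1 h0
  exact ⟨w, w.2, hw⟩

/-- The count of generators at a generic point. -/
theorem dim_eq_at_min [IsRegularRing R] [IsReduced K] (D : Fin N → Derivation ℤ R R) (θ : R →+* K)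
    (hθ : Function.Surjective θ) (f : Fin N → R) (hf : ∀ i, θ (f i) = 0) (hgen : Gen θ f)
    {p : Ideal K} (hp : p ∈ minimalPrimes K) (hΔ : (jac D θ f).det ∉ p) :
    (p.comap θ).height = N := by
  haveI := hp.1.1
  let Q' := p.comap θ
  let S := Localization.AtPrime Q'
  have hfQ : ∀ i, f i ∈ Q' := fun i => by
    rw [Ideal.mem_comap, hf]; exact zero_mem _
  have hdet : (jac D (RingHom.id R) f).det ∉ Q' := by
    rw [Ideal.mem_comap, ← det_jac_eq]
    exact hΔ
  obtain ⟨hreg, -⟩ := regular_at D Q' f hfQ hdet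
  have hmax : Ideal.span (Set.range fun i => algebraMap R S (f i)) = maximalIdeal S := by
    refine le_antisymm (Ideal.span_le.2 ?_) ?_
    · rintro _ ⟨i, rfl⟩
      exact (IsLocalization.AtPrime.to_map_mem_maximal_iff S Q' (f i)).2 (hfQ i)
    · rw [← Localization.AtPrime.map_eq_maximalIdeal (I := Q'), Ideal.map_le_iff_le_comap]
      intro x hx
      obtain ⟨w, hw, hw0⟩ := exists_notMem_mul_eq_zero hp (Ideal.mem_comap.1 hx)
      obtain ⟨w, rfl⟩ := hθ w
      obtain ⟨w', hw', hw'x⟩ := hgen p hp (w * x) (by rw [map_mul, hw0])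
      rw [Ideal.mem_comap]
      have h1 := Ideal.mem_map_of_mem (algebraMap R S) hw'x
      rw [Ideal.map_span, ← Set.range_comp, map_mul, map_mul] at h1
      have hu1 : IsUnit (algebraMap R S w) := IsLocalization.map_units S (⟨w, hw⟩ : Q'.primeCompl)
      have hu2 : IsUnit (algebraMap R S w') := IsLocalization.map_units S (⟨w', hw'⟩ : Q'.primeCompl)
      exact (Ideal.unit_mul_mem_iff_mem _ hu1).1 ((Ideal.unit_mul_mem_iff_mem _ hu2).1 h1)
  have h2 := ringKrullDim_add_length_eq_ringKrullDim_of_isRegular _ hreg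
  rw [List.length_ofFn, ringKrullDim_eq_of_ringEquiv (Ideal.quotEquivOfEq ((ofList_ofFn _).trans hmax))] at h2
  letI := Ideal.Quotient.field (maximalIdeal S)
  rw [ringKrullDim_eq_zero_of_field, zero_add, IsLocalization.AtPrime.ringKrullDim_eq_height Q' S] at h2
  exact (WithBot.coe_inj.1 h2).symm

/-- Regular points of the target have the trace element. -/
theorem exists_local_good [IsRegularRing R] [IsReduced K] (D : Fin N → Derivation ℤ R R) (θ : R →+* K)
    (hθ : Function.Surjective θ) (f : Fin N → R) (hf : ∀ i, θ (f i) = 0) (hgen : Gen θ f)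
    (M : Ideal K) [M.IsPrime] [IsRegularLocalRing (Localization.AtPrime M)]
    (hΔ : ∀ p ∈ minimalPrimes K, (jac D θ f).det ∉ p) :
    ∃ v w, θ w ∉ M ∧ (∀ x, θ x = 0 → v * x ∈ Ideal.span (Set.range f)) ∧
      θ v = (jac D θ f).det * θ w := by
  classical
  let Q := M.comap θ
  let S := Localization.AtPrime Q
  let B := Localization.AtPrime M
  let π : S →+* B := Localization.localRingHom Q M θ rfl
  have hπ : Function.Surjective π := fun b => by
    obtain ⟨k, t, rfl⟩ := IsLocalization.exists_mk'_eq M.primeCompl b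
    obtain ⟨x, rfl⟩ := hθ k
    obtain ⟨y, hy⟩ := hθ (t : K)
    refine ⟨IsLocalization.mk' S x (⟨y, fun h => t.2 (hy ▸ h)⟩ : Q.primeCompl), ?_⟩
    refine (Localization.localRingHom_mk' Q M θ rfl x _).trans ?_
    exact congrArg (IsLocalization.mk' B (θ x)) (Subtype.ext hy)
  have hto : ∀ x, π (algebraMap R S x) = algebraMap K B (θ x) :=
    Localization.localRingHom_to_map Q M θ rfl
  haveI : IsRegularLocalRing (S ⧸ RingHom.ker π) :=
    IsRegularLocalRing.of_ringEquiv (RingHom.quotientKerEquivOfSurjective hπ).symm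
  have hkill : ∀ x, algebraMap R S x ∈ RingHom.ker π → ∃ w, w ∉ M ∧ w * θ x = 0 := fun x hx => by
    rw [RingHom.mem_ker] at hx
    rw [hto] at hx
    obtain ⟨w, hw⟩ := (IsLocalization.map_eq_zero_iff M.primeCompl B _).1 hx
    exact ⟨w, w.2, hw⟩
  have hin : ∀ x, θ x = 0 → algebraMap R S x ∈ RingHom.ker π := fun x hx => by
    rw [RingHom.mem_ker]
    rw [hto, hx, map_zero]
  obtain ⟨p, hp, hpM⟩ := Ideal.exists_minimalPrimes_le (I := (⊥ : Ideal K)) (J := M) bot_le
  have hp' : p ∈ minimalPrimes K := hp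
  haveI := hp'.1.1
  have hht := dim_eq_at_min D θ hθ f hf hgen hp' (hΔ p hp')
  let Q' := p.comap θ
  have hdisj : Disjoint (Q.primeCompl : Set R) (Q' : Set R) :=
    Set.disjoint_left.2 fun x hx hx' => hx (hpM hx')
  let PS := Q'.map (algebraMap R S)
  haveI : PS.IsPrime := IsLocalization.isPrime_of_isPrime_disjoint Q.primeCompl S Q' inferInstance hdisj
  have hJP : RingHom.ker π ≤ PS := fun z hz => by
    obtain ⟨x, t, rfl⟩ := IsLocalization.exists_mk'_eq Q.primeCompl z
    have hx : algebraMap R S x ∈ RingHom.ker π := by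
      rw [← IsLocalization.mk'_spec S x t]
      exact Ideal.mul_mem_right _ _ hz
    obtain ⟨w, hw, hw0⟩ := hkill x hx
    refine (IsLocalization.mk'_mem_map_algebraMap_iff Q.primeCompl S Q' x t).2 ⟨1, Submonoid.one_mem _, ?_⟩
    rw [one_mul]
    exact ((inferInstance : p.IsPrime).mem_or_mem (hw0 ▸ p.zero_mem)).resolve_left fun h => hw (hpM h)
  have hc : (RingHom.ker π).spanFinrank ≤ N := by
    have h1 := CommAlgDim.ringKrullDim_quotient_add_of_regular_quotient (J := RingHom.ker π)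
    have h2 := CatLib.ringKrullDim_quotient_add_height
      (CommAlgDim.isCM_of_isRegularLocalRing S) PS
    rw [IsLocalization.height_map_of_disjoint Q.primeCompl Q' hdisj, hht] at h2
    have h3 : ringKrullDim (S ⧸ PS) ≤ ringKrullDim (S ⧸ RingHom.ker π) :=
      ringKrullDim_le_of_surjective (Ideal.Quotient.factor hJP) (Ideal.Quotient.factor_surjective hJP)
    haveI : Nontrivial (S ⧸ PS) := Ideal.Quotient.nontrivial_iff.2 Ideal.IsPrime.ne_top'
    haveI : IsLocalRing (S ⧸ PS) :=
      IsLocalRing.of_surjective' (Ideal.Quotient.mk PS) Ideal.Quotient.mk_surjective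
    obtain ⟨d, hd⟩ := CommAlgDim.exists_ringKrullDim_eq (R := S ⧸ RingHom.ker π)
    obtain ⟨e, he⟩ := CommAlgDim.exists_ringKrullDim_eq (R := S ⧸ PS)
    rw [hd, ← h2, he] at h1
    rw [hd, he] at h3
    norm_cast at h1 h3
    omega
  obtain ⟨G₀, hG₀c, hG₀⟩ := Submodule.FG.exists_span_finset_card_eq_spanFinrank
    (IsNoetherian.noetherian (RingHom.ker π))
  obtain ⟨G₁, hG₁⟩ : ∃ G₁ : Fin N → S, Ideal.span (Set.range G₁) = RingHom.ker π := by
    let e := G₀.equivFin
    refine ⟨fun i => if h : (i : ℕ) < G₀.card then (e.symm ⟨i, h⟩ : S) else 0, le_antisymm ?_ ?_⟩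
    · rw [Ideal.span_le]
      rintro _ ⟨i, rfl⟩
      dsimp only
      split_ifs with h
      · rw [← hG₀]
        exact Submodule.subset_span (e.symm ⟨i, h⟩).2
      · exact zero_mem _
    · rw [← hG₀, Submodule.span_le]
      intro z hz
      have hlt : ((e ⟨z, hz⟩ : ℕ)) < N := lt_of_lt_of_le (e ⟨z, hz⟩).2 (hG₀c ▸ hc)
      refine Ideal.subset_span ⟨⟨_, hlt⟩, ?_⟩
      simp
  have hnum : ∀ j, ∃ G : R, θ G = 0 ∧ ∃ unit : S, IsUnit unit ∧ algebraMap R S G = unit * G₁ j := fun j => by
    obtain ⟨x, t, hxt⟩ := IsLocalization.exists_mk'_eq Q.primeCompl (G₁ j)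
    have hx : algebraMap R S x ∈ RingHom.ker π := by
      rw [← IsLocalization.mk'_spec S x t, hxt, ← hG₁]
      exact Ideal.mul_mem_right _ _ (Ideal.subset_span ⟨j, rfl⟩)
    obtain ⟨w, hw, hw0⟩ := hkill x hx
    obtain ⟨w, rfl⟩ := hθ w
    refine ⟨w * x, by rw [map_mul, hw0], algebraMap R S w * algebraMap R S t,
      (IsLocalization.map_units S (⟨w, hw⟩ : Q.primeCompl)).mul (IsLocalization.map_units S t), ?_⟩
    rw [map_mul, ← IsLocalization.mk'_spec S x t, hxt]
    ring
  choose G hG0 unit hunit hG using hnum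
  have hspan : RingHom.ker π ≤ (Ideal.span (Set.range G)).map (algebraMap R S) := by
    rw [← hG₁, Ideal.span_le]
    rintro _ ⟨j, rfl⟩
    rw [SetLike.mem_coe, ← Ideal.unit_mul_mem_iff_mem _ (hunit j), ← hG]
    exact Ideal.mem_map_of_mem _ (Ideal.subset_span ⟨j, rfl⟩)
  have hclear : ∀ x, θ x = 0 → ∃ t ∈ Q.primeCompl, t * x ∈ Ideal.span (Set.range G) := fun x hx =>
    (IsLocalization.algebraMap_mem_map_algebraMap_iff Q.primeCompl S _ x).1 (hspan (hin x hx))
  choose t ht htG using fun i => hclear (f i) (hf i)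
  let s := ∏ i, t i
  have hs : s ∈ Q.primeCompl := Submonoid.prod_mem _ fun i _ => ht i
  have hsf : ∀ i, s * f i ∈ Ideal.span (Set.range G) := fun i => by
    obtain ⟨r, hr⟩ := Finset.dvd_prod_of_mem t (Finset.mem_univ i)
    rw [show s = t i * r from hr, mul_comm (t i), mul_assoc]
    exact Ideal.mul_mem_left _ _ (htG i)
  choose m hm using fun i => Ideal.mem_span_range_iff_exists_fun.1 (hsf i)
  let Mx : Matrix (Fin N) (Fin N) R := Matrix.of m
  have hMx : ∀ i, s * f i = ∑ j, Mx i j * G j := fun i => (hm i).symm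
  obtain ⟨gens, hgens⟩ := IsNoetherian.noetherian (RingHom.ker θ)
  have hker : ∀ z ∈ gens, θ z = 0 := fun z hz =>
    RingHom.mem_ker.1 (hgens ▸ Submodule.subset_span hz)
  choose W hW hWG using fun z : gens => hclear z (hker z z.2)
  let w₀ := ∏ z, W z
  have hw₀ : w₀ ∈ Q.primeCompl := Submonoid.prod_mem _ fun i _ => hW i
  have hw₀G : ∀ x, θ x = 0 → w₀ * x ∈ Ideal.span (Set.range G) := fun x hx => by
    have hle : RingHom.ker θ ≤ (Ideal.span (Set.range G)).colon {w₀} := by
      rw [← hgens, Submodule.span_le]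
      intro z hz
      obtain ⟨r, hr⟩ := Finset.dvd_prod_of_mem W (Finset.mem_univ (⟨z, hz⟩ : gens))
      rw [SetLike.mem_coe, Submodule.mem_colon_singleton, smul_eq_mul,
        show w₀ = W ⟨z, hz⟩ * r from hr, show z * (W ⟨z, hz⟩ * r) = r * (W ⟨z, hz⟩ * z) by ring]
      exact Ideal.mul_mem_left _ _ (hWG ⟨z, hz⟩)
    have h1 := hle (RingHom.mem_ker.2 hx)
    rwa [Submodule.mem_colon_singleton, smul_eq_mul, mul_comm] at h1
  let δ := (jac D (RingHom.id R) G).det
  refine ⟨Mx.det * δ * w₀, s ^ N * w₀,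
    fun h => mul_mem (pow_mem hs N) hw₀ (show s ^ N * w₀ ∈ Q from h), fun x hx => ?_, ?_⟩
  · have hle : ∀ z ∈ Ideal.span (Set.range G), Mx.det * z ∈ Ideal.span (Set.range f) := fun z hz => by
      obtain ⟨a, rfl⟩ := Ideal.mem_span_range_iff_exists_fun.1 hz
      rw [Finset.mul_sum]
      refine Ideal.sum_mem _ fun j _ => ?_
      rw [mul_left_comm]
      refine Ideal.mul_mem_left _ _ ((Ideal.span_le.2 ?_)
        (det_mul_mem_span (fun i => s * f i) G Mx hMx j))
      rintro _ ⟨i, rfl⟩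
      exact Ideal.mul_mem_left _ _ (Ideal.subset_span ⟨i, rfl⟩)
    rw [show Mx.det * δ * w₀ * x = δ * (Mx.det * (w₀ * x)) by ring]
    exact Ideal.mul_mem_left _ _ (hle _ (hw₀G x hx))
  · rw [map_mul θ _ w₀, map_mul θ Mx.det, map_mul θ (s ^ N), map_pow, ← det_jac_eq,
      ← det_jac_trans D θ f G hf hG0 s Mx hMx]
    ring

end PurityRamLib
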