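import Groth.Agent.PurityRamLib.Complete
import Groth.Agent.PurityLib.Normal

/-! # Purity of the ramification locus, algebraic form -/

set_option autoImplicit false
set_option linter.all false
set_option maxHeartbeats 1000000
noncomputable section
universe u

open IsLocalRing

namespace PurityRamLib

attribute [local instance 10000] Ring.toIntAlgebra

variable {R S : Type u} [CommRing R] [CommRing S] [Algebra R S]

/-- A prime with algebraic residue field is maximal in its fibre. -/
theorem eq_of_le_of_algebraic (p : Ideal R) (q q' : Ideal S) [q.IsPrime] [q'.IsPrime]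
    (hint : ∀ s : S, ∃ H : Polynomial R, (∃ i, H.coeff i ∉ p) ∧ Polynomial.aeval s H ∈ q)
    (hqp : q.under R = p) (hle : q ≤ q') (hq' : q'.under R = p) : q' = q := by
  refine le_antisymm (fun s hs => ?_) hle
  by_contra hsq
  have key : ∀ (N : ℕ) (H : Polynomial R), H.natDegree ≤ N → (∃ i, H.coeff i ∉ p) →
      Polynomial.aeval s H ∈ q → False := by
    intro N
    induction N with
    | zero =>
      intro H hN ⟨i, hi⟩ hH
      rw [Polynomial.eq_C_of_natDegree_le_zero hN, Polynomial.aeval_C] at hH
      rcases Nat.eq_zero_or_pos i with rfl | hpos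
      · exact hi (hqp ▸ hH)
      · exact hi (by rw [Polynomial.coeff_eq_zero_of_natDegree_lt (lt_of_le_of_lt hN hpos)]; exact zero_mem _)
    | succ N ih =>
      intro H hN ⟨i, hi⟩ hH
      have h0 := hH
      rw [← Polynomial.X_mul_divX_add H, map_add, map_mul, Polynomial.aeval_X, Polynomial.aeval_C] at h0
      have hc : H.coeff 0 ∈ p := by
        rw [← hq']
        show algebraMap R S (H.coeff 0) ∈ q'
        have h1 := hle h0
        exact (add_mem_cancel_left (Ideal.mul_mem_right _ _ hs)).1 h1
      have hc' : algebraMap R S (H.coeff 0) ∈ q := by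
        rw [← hqp] at hc; exact hc
      refine ih H.divX ?_ ?_ ((Ideal.IsPrime.mem_or_mem ‹q.IsPrime› ((add_mem_cancel_right hc').1 h0)).resolve_left hsq)
      · rw [Polynomial.natDegree_divX_eq_natDegree_tsub_one]; omega
      · rcases Nat.eq_zero_or_pos i with rfl | hpos
        · exact absurd hc hi
        · exact ⟨i - 1, by rw [Polynomial.coeff_divX, Nat.sub_add_cancel hpos]; exact hi⟩
  obtain ⟨H, hH, hHq⟩ := hint s
  exact key H.natDegree H le_rfl hH hHq

/-- Relations from monic equations over the local ring. -/
theorem algebraic_of_monic (p : Ideal R) [p.IsPrime] (q : Ideal S) {K : Type u} [Field K] (j : S →+* K)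
    (hj : RingHom.ker j = q) (φ : Localization.AtPrime p →+* K)
    (hc : ∀ r, φ (algebraMap R _ r) = j (algebraMap R S r))
    (hint : ∀ s, ∃ H : Polynomial (Localization.AtPrime p), H.Monic ∧ H.eval₂ φ (j s) = 0) (s : S) :
    ∃ H : Polynomial R, (∃ i, H.coeff i ∉ p) ∧ Polynomial.aeval s H ∈ q := by
  obtain ⟨H, hm, hH⟩ := hint s
  obtain ⟨b, hb⟩ := IsLocalization.integerNormalization_map_to_map p.primeCompl H
  refine ⟨IsLocalization.integerNormalization p.primeCompl H, ⟨H.natDegree, fun hmem => ?_⟩, ?_⟩
  · have h1 := congrArg (fun P => Polynomial.coeff P H.natDegree) hb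
    simp only [Polynomial.coeff_map, Polynomial.coeff_smul, hm.coeff_natDegree] at h1
    rw [Algebra.smul_def, mul_one] at h1
    refine b.2 ?_
    exact (IsLocalization.AtPrime.to_map_mem_maximal_iff (Localization.AtPrime p) p _).1
      (h1 ▸ (IsLocalization.AtPrime.to_map_mem_maximal_iff (Localization.AtPrime p) p _).2 hmem)
  · rw [← hj, RingHom.mem_ker, Polynomial.aeval_def, Polynomial.hom_eval₂,
      show j.comp (algebraMap R S) = φ.comp (algebraMap R (Localization.AtPrime p)) from
        RingHom.ext fun r => (hc r).symm,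
      ← Polynomial.eval₂_map, hb, Algebra.smul_def, Polynomial.algebraMap_apply, Polynomial.eval₂_mul, hH, mul_zero]

/-- Primes which are isolated in their fibres are quasi-finite. -/
theorem quasiFiniteAt_of_isolated [Algebra.FiniteType R S] (q : PrimeSpectrum S)
    (hmax : ∀ q' : PrimeSpectrum S, q ≤ q' → q'.asIdeal.under R = q.asIdeal.under R → q' = q)
    (hmin : ∀ q' : PrimeSpectrum S, q' ≤ q → q'.asIdeal.under R = q.asIdeal.under R → q' = q) :
    Algebra.QuasiFiniteAt R q.asIdeal := by
  refine Algebra.QuasiFiniteAt.of_isOpen_singleton_fiber q ?_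
  let p := q.comap (algebraMap R S)
  let e := PrimeSpectrum.preimageHomeomorphFiber R S p
  let o := PrimeSpectrum.preimageOrderIsoFiber R S p
  rw [← e.isOpen_image, Set.image_singleton]
  haveI : IsJacobsonRing (p.asIdeal.Fiber S) := isJacobsonRing_of_finiteType (A := p.asIdeal.ResidueField)
  haveI : IsNoetherianRing (p.asIdeal.Fiber S) := Algebra.FiniteType.isNoetherianRing p.asIdeal.ResidueField _
  rw [(PrimeSpectrum.isOpen_singleton_tfae_of_isNoetherian_of_isJacobsonRing _).out 0 2 rfl rfl]
  refine ⟨?_, ?_⟩
  · rw [PrimeSpectrum.isClosed_singleton_iff_isMaximal, ← PrimeSpectrum.isMax_iff]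
    intro y hy
    obtain ⟨⟨q', hq'⟩, rfl⟩ := o.surjective y
    have h1 : q ≤ q' := o.le_iff_le.1 hy
    exact le_of_eq (congrArg o (Subtype.ext (hmax q' h1 (congrArg PrimeSpectrum.asIdeal hq'))))
  · intro x y hyx hx
    rw [Set.mem_singleton_iff] at hx
    subst hx
    rw [Set.mem_singleton_iff]
    obtain ⟨⟨q', hq'⟩, rfl⟩ := o.surjective y
    have h1 : q' ≤ q := o.le_iff_le.1 ((PrimeSpectrum.le_iff_specializes _ _).2 hyx)
    exact congrArg o (Subtype.ext (hmin q' h1 (congrArg PrimeSpectrum.asIdeal hq')))

section Chart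

variable (p : Ideal R) [p.IsPrime] (q : Ideal S) [q.IsPrime] [q.LiesOver p] {n : ℕ}
  (π : MvPolynomial (Fin n) R →ₐ[R] S)

/-- The presentation of the local ring over the local ring of the base. -/
def psi : MvPolynomial (Fin n) (Localization.AtPrime p) →+* Localization.AtPrime q :=
  MvPolynomial.eval₂Hom (Localization.localRingHom p q (algebraMap R S) (q.over_def p))
    fun i => algebraMap S (Localization.AtPrime q) (π (MvPolynomial.X i))

theorem psi_map (x : MvPolynomial (Fin n) R) :
    psi p q π (MvPolynomial.map (algebraMap R (Localization.AtPrime p)) x) = algebraMap S _ (π x) := by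
  induction x using MvPolynomial.induction_on with
  | C a =>
    rw [MvPolynomial.map_C, psi, MvPolynomial.eval₂Hom_C, Localization.localRingHom_to_map,
      ← MvPolynomial.algebraMap_eq, AlgHom.commutes]
  | add x y hx hy => simp only [map_add, hx, hy]
  | mul_X x i hx => rw [map_mul, MvPolynomial.map_X, map_mul, hx, psi, MvPolynomial.eval₂Hom_X', map_mul, map_mul]

theorem psi_C (a : Localization.AtPrime p) :
    psi p q π (MvPolynomial.C a) = Localization.localRingHom p q (algebraMap R S) (q.over_def p) a :=
  MvPolynomial.eval₂Hom_C _ _ a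

theorem locSurj_psi (hπ : Function.Surjective π) : LocSurj (psi p q π) := fun b => by
  obtain ⟨s, t, rfl⟩ := IsLocalization.exists_mk'_eq q.primeCompl b
  obtain ⟨x, hx⟩ := hπ s
  obtain ⟨y, hy⟩ := hπ (t : S)
  refine ⟨MvPolynomial.map (algebraMap R _) x, MvPolynomial.map (algebraMap R _) y, ?_, ?_⟩
  · rw [psi_map, hy]
    exact IsLocalization.map_units (Localization.AtPrime q) t
  · rw [psi_map, psi_map, hy, hx, mul_comm, IsLocalization.mk'_spec]

theorem comap_psi : (maximalIdeal (Localization.AtPrime q)).comap ((psi p q π).comp MvPolynomial.C) =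
    maximalIdeal (Localization.AtPrime p) := by
  haveI := Localization.isLocalHom_localRingHom p q (algebraMap R S) (q.over_def p)
  rw [show (psi p q π).comp MvPolynomial.C = Localization.localRingHom p q (algebraMap R S) (q.over_def p) from
    RingHom.ext (psi_C p q π)]
  haveI : ((maximalIdeal (Localization.AtPrime q)).comap
      (Localization.localRingHom p q (algebraMap R S) (q.over_def p))).IsPrime := Ideal.comap_isPrime _ _
  refine le_antisymm (le_maximalIdeal Ideal.IsPrime.ne_top') fun x hx => ?_
  exact map_nonunit _ x hx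

/-- Unramified points have equations with invertible Jacobian. -/
theorem exists_jac (hπ : Function.Surjective π) (Q : Ideal (Localization.AtPrime q)) [Q.IsPrime]
    (hu : Algebra.IsUnramifiedAt R (Q.comap (algebraMap S (Localization.AtPrime q)))) :
    ∃ g : Fin n → MvPolynomial (Fin n) (Localization.AtPrime p),
      (∀ i, psi p q π (g i) = 0) ∧ (jac pd (psi p q π) g).det ∉ Q := by
  classical
  let K := Q.ResidueField
  let ρ : Localization.AtPrime q →+* K := algebraMap _ K
  let ψ := psi p q π
  let rows : Set (Fin n → K) :=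
    (fun k j => ρ (ψ (pd j k))) '' (RingHom.ker ψ : Set (MvPolynomial (Fin n) (Localization.AtPrime p)))
  have hspan : Submodule.span K rows = ⊤ := by
    by_contra hne
    obtain ⟨f, hf0, hf⟩ := Submodule.exists_dual_map_eq_bot_of_lt_top (lt_top_iff_ne_top.2 hne) inferInstance
    let c : Fin n → K := fun j => f (Pi.single j 1)
    have hfc : ∀ v, f v = ∑ j, v j * c j := fun v => by
      conv_lhs => rw [← Finset.univ_sum_single v]
      rw [map_sum]
      refine Finset.sum_congr rfl fun j _ => ?_
      rw [show Pi.single j (v j) = (v j) • (Pi.single j 1 : Fin n → K) by simp [← Pi.single_smul], map_smul, smul_eq_mul]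
    have hk : ∀ k, ψ k = 0 → ∑ j, ρ (ψ (pd j k)) * c j = 0 := fun k hk => by
      rw [← hfc fun j => ρ (ψ (pd j k))]
      have : f (fun j => ρ (ψ (pd j k))) ∈ (Submodule.span K rows).map f :=
        Submodule.mem_map_of_mem (Submodule.subset_span ⟨k, hk, rfl⟩)
      rwa [hf, Submodule.mem_bot] at this
    -- a deformation of the point
    let Q₀ := Q.comap (algebraMap S (Localization.AtPrime q))
    let D := TrivSqZeroExt K K
    let h : MvPolynomial (Fin n) R →+* D := MvPolynomial.eval₂Hom
      ((TrivSqZeroExt.inlHom K K).comp ((ρ.comp (algebraMap S _)).comp (algebraMap R S)))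
      fun i => TrivSqZeroExt.inl (ρ (algebraMap S _ (π (MvPolynomial.X i)))) + TrivSqZeroExt.inr (c i)
    have hfa : ∀ a b : D, TrivSqZeroExt.fst (a + b) = a.fst + b.fst := fun _ _ => rfl
    have hsa : ∀ a b : D, TrivSqZeroExt.snd (a + b) = a.snd + b.snd := fun _ _ => rfl
    have hfm : ∀ a b : D, TrivSqZeroExt.fst (a * b) = a.fst * b.fst := fun _ _ => rfl
    have hsm : ∀ a b : D, TrivSqZeroExt.snd (a * b) = a.fst * b.snd + a.snd * b.fst := fun _ _ => rfl
    have hh : ∀ x, h x = TrivSqZeroExt.inl (ρ (algebraMap S _ (π x))) +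
        TrivSqZeroExt.inr (∑ j, ρ (ψ (pd j (MvPolynomial.map (algebraMap R _) x))) * c j) := by
      intro x
      induction x using MvPolynomial.induction_on with
      | C a =>
        have h0 : ∀ j : Fin n, pd j (MvPolynomial.map (algebraMap R (Localization.AtPrime p)) (MvPolynomial.C a)) = 0 :=
          fun j => by rw [MvPolynomial.map_C]; exact MvPolynomial.pderiv_C
        simp only [h, MvPolynomial.eval₂Hom_C, h0, map_zero, zero_mul, Finset.sum_const_zero,
          TrivSqZeroExt.inr_zero, add_zero]
        rw [← MvPolynomial.algebraMap_eq, AlgHom.commutes]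
        rfl
      | add x y hx hy =>
        simp only [map_add, hx, hy, add_mul, Finset.sum_add_distrib]
        refine TrivSqZeroExt.ext ?_ ?_
        · simp only [hfa, TrivSqZeroExt.fst_inl, TrivSqZeroExt.fst_inr, add_zero]
        · simp only [hsa, TrivSqZeroExt.snd_inl, TrivSqZeroExt.snd_inr, zero_add]
      | mul_X x i hx =>
        rw [map_mul, hx, show h (MvPolynomial.X i) = _ from MvPolynomial.eval₂Hom_X' _ _ i]
        have hd : ∀ j : Fin n, ρ (ψ (pd j (MvPolynomial.map (algebraMap R (Localization.AtPrime p)) (x * MvPolynomial.X i)))) =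
            ρ (algebraMap S _ (π x)) * (if i = j then 1 else 0) +
              ρ (algebraMap S _ (π (MvPolynomial.X i))) * ρ (ψ (pd j (MvPolynomial.map (algebraMap R _) x))) := fun j => by
          rw [map_mul, Derivation.leibniz, smul_eq_mul, smul_eq_mul, map_add, map_mul ψ, map_mul ψ, map_add, map_mul, map_mul,
            psi_map, psi_map, MvPolynomial.map_X]
          show ρ _ * ρ (ψ (MvPolynomial.pderiv j (MvPolynomial.X i))) + _ = _
          congr 2
          rw [MvPolynomial.pderiv_X, Pi.single_apply]
          split_ifs <;> simp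
        refine TrivSqZeroExt.ext ?_ ?_
        · simp only [hfm, hfa, TrivSqZeroExt.fst_inl, TrivSqZeroExt.fst_inr, add_zero, map_mul]
        · simp only [hsm, hfa, hsa, TrivSqZeroExt.fst_inl, TrivSqZeroExt.fst_inr,
            TrivSqZeroExt.snd_inl, TrivSqZeroExt.snd_inr, add_zero, zero_add, hd, add_mul, Finset.sum_add_distrib, mul_ite, mul_one, mul_zero,
            ite_mul, zero_mul, Finset.sum_ite_eq, Finset.mem_univ, if_true, Finset.mul_sum, Finset.sum_mul]
          rw [Finset.sum_mul (R := K)]
          refine congrArg₂ (fun a b : K => a + b) rfl (Finset.sum_congr rfl fun j _ => ?_)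
          ring
    have hker : RingHom.ker π.toRingHom ≤ RingHom.ker h := fun x hx => by
      have hx' : π x = 0 := hx
      rw [RingHom.mem_ker, hh, hx', map_zero, map_zero, TrivSqZeroExt.inl_zero, zero_add,
        hk (MvPolynomial.map (algebraMap R _) x) (by rw [show ψ _ = _ from psi_map p q π x, hx', map_zero]),
        TrivSqZeroExt.inr_zero]
    let h₁ : S →+* D := π.toRingHom.liftOfSurjective hπ ⟨h, hker⟩
    have hh₁ : ∀ x, h₁ (π x) = h x := fun x =>
      RingHom.liftOfRightInverse_comp_apply _ _ _ ⟨h, hker⟩ x
    have hρQ : ∀ s, s ∉ Q₀ → ρ (algebraMap S _ s) ≠ 0 := fun s hs h0 =>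
      hs (Ideal.mem_comap.2 (Ideal.algebraMap_residueField_eq_zero.1 h0))
    have hunit : ∀ s : Q₀.primeCompl, IsUnit (h₁ s) := fun s => by
      obtain ⟨x, hx⟩ := hπ (s : S)
      rw [← hx, hh₁, hh, TrivSqZeroExt.isUnit_iff_isUnit_fst]
      rw [TrivSqZeroExt.fst_add, TrivSqZeroExt.fst_inl, TrivSqZeroExt.fst_inr, add_zero, hx, isUnit_iff_ne_zero]
      exact hρQ _ s.2
    letI : Algebra R D := ((TrivSqZeroExt.inlHom K K).comp ((ρ.comp (algebraMap S _)).comp (algebraMap R S))).toAlgebra
    let f₁ : Localization.AtPrime Q₀ →+* D := IsLocalization.lift hunit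
    let f₂ : Localization.AtPrime Q₀ →+* D := (TrivSqZeroExt.inlHom K K).comp
      (IsLocalization.lift (g := ρ.comp (algebraMap S _)) (M := Q₀.primeCompl) fun s => isUnit_iff_ne_zero.2 (hρQ _ s.2))
    let F₁ : Localization.AtPrime Q₀ →ₐ[R] D := { f₁ with
      commutes' := fun r => by
        show f₁ (algebraMap R _ r) = _
        rw [IsScalarTower.algebraMap_apply R S (Localization.AtPrime Q₀), IsLocalization.lift_eq,
          ← π.commutes r, hh₁, MvPolynomial.algebraMap_eq, show h (MvPolynomial.C r) = _ from MvPolynomial.eval₂Hom_C _ _ r]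
        rfl }
    let F₂ : Localization.AtPrime Q₀ →ₐ[R] D := { f₂ with
      commutes' := fun r => by
        show TrivSqZeroExt.inl (IsLocalization.lift _ (algebraMap R _ r)) = _
        rw [IsScalarTower.algebraMap_apply R S (Localization.AtPrime Q₀), IsLocalization.lift_eq]
        rfl }
    haveI : Algebra.FormallyUnramified R (Localization.AtPrime Q₀) := hu
    have hF : F₁ = F₂ := by
      refine Algebra.FormallyUnramified.ext' (TrivSqZeroExt.fstHom K K K).toRingHom ⟨2, ?_⟩ F₁ F₂ fun z => ?_
      · rw [sq, Submodule.zero_eq_bot, eq_bot_iff, Ideal.mul_le]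
        intro a ha b hb
        rw [Ideal.mem_bot]
        refine TrivSqZeroExt.ext ?_ ?_
        · rw [TrivSqZeroExt.fst_mul, show a.fst = 0 from ha, zero_mul]; rfl
        · rw [TrivSqZeroExt.snd_mul, show a.fst = 0 from ha, show b.fst = 0 from hb]; simp
      · obtain ⟨s, t, rfl⟩ := IsLocalization.exists_mk'_eq Q₀.primeCompl z
        have key : ∀ w : S, TrivSqZeroExt.fst (f₁ (algebraMap S _ w)) = TrivSqZeroExt.fst (f₂ (algebraMap S _ w)) := fun w => by
          obtain ⟨x, rfl⟩ := hπ w
          rw [show f₁ (algebraMap S _ (π x)) = h₁ (π x) from IsLocalization.lift_eq _ _, hh₁, hh]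
          show _ = TrivSqZeroExt.fst (TrivSqZeroExt.inl (IsLocalization.lift _ (algebraMap S _ (π x))))
          rw [IsLocalization.lift_eq]
          simp only [hfa, TrivSqZeroExt.fst_inl, TrivSqZeroExt.fst_inr, add_zero]
          rfl
        let φ := (TrivSqZeroExt.fstHom K K K).toRingHom
        show (φ.comp f₁) _ = (φ.comp f₂) _
        refine congrFun (congrArg DFunLike.coe (IsLocalization.ringHom_ext Q₀.primeCompl (RingHom.ext key))) _
    have hc0 : ∀ i, c i = 0 := fun i => by
      have h2 : f₁ (algebraMap S _ (π (MvPolynomial.X i))) = f₂ (algebraMap S _ (π (MvPolynomial.X i))) :=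
        AlgHom.congr_fun hF _
      rw [show f₁ (algebraMap S _ (π (MvPolynomial.X i))) = h₁ _ from IsLocalization.lift_eq _ _, hh₁,
        show h (MvPolynomial.X i) = _ from MvPolynomial.eval₂Hom_X' _ _ i] at h2
      have h3 := congrArg TrivSqZeroExt.snd h2
      rw [show f₂ _ = TrivSqZeroExt.inl _ from rfl, hsa, TrivSqZeroExt.snd_inl, TrivSqZeroExt.snd_inr,
        TrivSqZeroExt.snd_inl, zero_add] at h3
      exact h3
    exact hf0 (LinearMap.ext fun v => by rw [hfc]; simp [hc0])
  obtain ⟨b, hb, hbs, hli⟩ := exists_linearIndependent K rows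
  rw [hspan] at hbs
  haveI : Finite b := hli.finite
  haveI : Fintype b := Fintype.ofFinite b
  let B₀ : Module.Basis b K (Fin n → K) := Module.Basis.mk hli (by rw [Subtype.range_coe]; exact hbs.ge)
  let e : Fin n ≃ b := (Pi.basisFun K (Fin n)).indexEquiv B₀
  choose g hgk hgv using fun i => hb (e i).2
  refine ⟨g, hgk, fun hmem => ?_⟩
  have h1 : LinearIndependent K ((jac pd ψ g).map ρ).row := by
    have h2 := hli.comp e e.injective
    have h4 : ((jac pd ψ g).map ρ).row = (Subtype.val : b → Fin n → K) ∘ e := funext fun i => hgv i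
    rw [h4]
    exact h2
  have h3 := (Matrix.isUnit_iff_isUnit_det _).1 (Matrix.linearIndependent_rows_iff_isUnit.1 h1)
  rw [← RingHom.mapMatrix_apply, ← RingHom.map_det] at h3
  exact h3.ne_zero (Ideal.algebraMap_residueField_eq_zero.2 hmem)

variable [IsNoetherianRing R] [Algebra.FiniteType R S] [IsRegularLocalRing (Localization.AtPrime p)]

/-- Flat unramified points are étale points of the presentation. -/
theorem et_of_flat_unramified (hπ : Function.Surjective π) (Q : Ideal (Localization.AtPrime q)) [Q.IsPrime]
    (hf : Module.Flat R (Localization.AtPrime (Q.comap (algebraMap S (Localization.AtPrime q)))))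
    (hu : Algebra.IsUnramifiedAt R (Q.comap (algebraMap S (Localization.AtPrime q)))) :
    Et pd (psi p q π) Q := by
  obtain ⟨g, hg, hdet⟩ := exists_jac p q π hπ Q hu
  haveI := CommAlgDim.isRegularRing_of_isRegularLocalRing (Localization.AtPrime p)
  refine et_of_height _ (locSurj_psi p q π hπ) Q g hg hdet ?_
  haveI : IsNoetherianRing S := Algebra.FiniteType.isNoetherianRing R S
  let Q₀ := Q.comap (algebraMap S (Localization.AtPrime q))
  let p₀ := Q₀.under R
  haveI : Q₀.LiesOver p₀ := ⟨rfl⟩
  letI := Localization.AtPrime.algebraOfLiesOver p₀ Q₀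
  haveI : Module.Flat (Localization.AtPrime p₀) (Localization.AtPrime Q₀) :=
    (Module.flat_iff_of_isLocalization (Localization.AtPrime p₀) p₀.primeCompl _).2 hf
  haveI : IsNoetherianRing (Localization.AtPrime p₀) := IsLocalization.isNoetherianRing p₀.primeCompl _ inferInstance
  haveI : IsNoetherianRing (Localization.AtPrime Q₀) := IsLocalization.isNoetherianRing Q₀.primeCompl _ inferInstance
  haveI := hu
  have hm : (maximalIdeal (Localization.AtPrime p₀)).map (algebraMap _ (Localization.AtPrime Q₀)) =
      maximalIdeal (Localization.AtPrime Q₀) := by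
    rw [← Localization.AtPrime.map_eq_maximalIdeal (I := p₀), Ideal.map_map, ← IsScalarTower.algebraMap_eq]
    exact ((Algebra.isUnramifiedAt_iff_map_eq R p₀ Q₀).1 hu).2
  have h1 := CohenLib.ringKrullDim_eq_of_flat_unramified (Localization.AtPrime p₀) (Localization.AtPrime Q₀) hm
  rw [IsLocalization.AtPrime.ringKrullDim_eq_height Q₀, IsLocalization.AtPrime.ringKrullDim_eq_height p₀] at h1
  have h2 : Q₀.height = p₀.height := WithBot.coe_inj.1 h1
  have h3 : Q₀.height = Q.height := IsLocalization.height_under q.primeCompl Q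
  have h4 : ((Q.comap ((psi p q π).comp MvPolynomial.C)).under R).height =
      (Q.comap ((psi p q π).comp MvPolynomial.C)).height := IsLocalization.height_under p.primeCompl _
  rw [← h3, h2, ← h4]
  congr 1
  ext r
  simp only [p₀, Q₀, Ideal.under_def, Ideal.mem_comap, RingHom.comp_apply, psi_C, Localization.localRingHom_to_map]

/-- Dimension equality and quasi-finiteness. -/
theorem dim_quasiFinite [IsDomain (Localization.AtPrime q)] [IsIntegrallyClosed (Localization.AtPrime q)]
    (hd : (2 : WithBot ℕ∞) ≤ ringKrullDim (Localization.AtPrime q))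
    (hU : ∀ (Q : Ideal S) [Q.IsPrime], Q < q →
      Module.Flat R (Localization.AtPrime Q) ∧ Algebra.IsUnramifiedAt R Q) :
    ringKrullDim (Localization.AtPrime q) = ringKrullDim (Localization.AtPrime p) ∧ Algebra.QuasiFiniteAt R q := by
  obtain ⟨n, π, hπ⟩ := Algebra.FiniteType.iff_quotient_mvPolynomial''.1 ‹Algebra.FiniteType R S›
  haveI : IsNoetherianRing S := Algebra.FiniteType.isNoetherianRing R S
  haveI : IsNoetherianRing (Localization.AtPrime q) := IsLocalization.isNoetherianRing q.primeCompl _ inferInstance
  obtain ⟨hdim, hres⟩ := concl (psi p q π) (locSurj_psi p q π hπ) (comap_psi p q π) hd fun Q _ hQ => by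
    have hlt : Q.comap (algebraMap S (Localization.AtPrime q)) < q := by
      refine lt_of_le_of_ne ?_ fun h => hQ ?_
      · exact (Ideal.comap_mono (le_maximalIdeal Ideal.IsPrime.ne_top')).trans_eq
          (IsLocalization.AtPrime.comap_maximalIdeal (Localization.AtPrime q) q)
      · rw [← IsLocalization.map_under q.primeCompl (Localization.AtPrime q) Q,
          show Q.under S = q from h, Localization.AtPrime.map_eq_maximalIdeal]
    obtain ⟨hf, hu⟩ := hU _ hlt
    exact et_of_flat_unramified p q π hπ Q hf hu
  refine ⟨hdim, ?_⟩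
  let K := ResidueField (Localization.AtPrime q)
  have hrel : ∀ s : S, ∃ H : Polynomial R, (∃ i, H.coeff i ∉ p) ∧ Polynomial.aeval s H ∈ q := by
    refine algebraic_of_monic p q ((residue _).comp (algebraMap S (Localization.AtPrime q))) ?_
      ((residue _).comp ((psi p q π).comp MvPolynomial.C)) (fun r => ?_) (fun s => ?_)
    · ext s
      rw [RingHom.mem_ker, RingHom.comp_apply, residue_eq_zero_iff, IsLocalization.AtPrime.to_map_mem_maximal_iff _ q]
    · simp only [RingHom.comp_apply, psi_C, Localization.localRingHom_to_map]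
    · obtain ⟨H, hm, hH⟩ := hres (algebraMap S _ s)
      refine ⟨H, hm, ?_⟩
      rw [← residue_eq_zero_iff, Polynomial.hom_eval₂] at hH
      exact hH
  have hqp : q.under R = p := (q.over_def p).symm
  refine quasiFiniteAt_of_isolated ⟨q, ‹_›⟩ (fun q' hle hq' => PrimeSpectrum.ext ?_) fun q' hle hq' => PrimeSpectrum.ext ?_
  · exact eq_of_le_of_algebraic p q q'.asIdeal hrel hqp hle (hq'.trans hqp)
  · by_contra hne
    have hlt : q'.asIdeal < q := lt_of_le_of_ne hle hne
    haveI := (hU q'.asIdeal hlt).2
    haveI : q'.asIdeal.LiesOver p := ⟨(hq'.trans hqp).symm⟩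
    letI := Localization.AtPrime.algebraOfLiesOver p q'.asIdeal
    refine hne (eq_of_le_of_algebraic p q'.asIdeal q (fun s => ?_) (hq'.trans hqp) hle hqp).symm
    refine algebraic_of_monic p q'.asIdeal (algebraMap S q'.asIdeal.ResidueField) (Ideal.ker_algebraMap_residueField _)
      ((algebraMap p.ResidueField q'.asIdeal.ResidueField).comp (residue (Localization.AtPrime p))) (fun r => ?_)
      (fun s => ?_) s
    · show algebraMap p.ResidueField q'.asIdeal.ResidueField (algebraMap R p.ResidueField r) = _
      rw [← IsScalarTower.algebraMap_apply, IsScalarTower.algebraMap_apply R S q'.asIdeal.ResidueField]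
    · obtain ⟨H₀, hm, hH⟩ := IsIntegral.of_finite p.ResidueField (algebraMap S q'.asIdeal.ResidueField s)
      obtain ⟨H, hH', -, hHm⟩ := Polynomial.lifts_and_degree_eq_and_monic
        (Polynomial.mem_lifts_of_surjective (residue_surjective (R := Localization.AtPrime p)) H₀) hm
      refine ⟨H, hHm, ?_⟩
      rw [← Polynomial.eval₂_map, hH']
      exact hH

end Chart

theorem isLocalization_congr {S E : Type u} [CommRing S] [CommRing E] [Algebra S E] {Q₁ Q : Ideal S}
    [Q₁.IsPrime] [Q.IsPrime] (h : Q₁ = Q) [IsLocalization.AtPrime E Q₁] : IsLocalization.AtPrime E Q := by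
  subst h; assumption

/-- Purity of the ramification locus, algebraic form. -/
theorem flat_unramified_of_punctured [IsNoetherianRing R] [Algebra.FiniteType R S] (q : Ideal S) [q.IsPrime]
    [IsRegularLocalRing (Localization.AtPrime (q.under R))]
    [IsDomain (Localization.AtPrime q)] [IsIntegrallyClosed (Localization.AtPrime q)]
    (hbase : ∀ (Q : Ideal S) [Q.IsPrime], Q ≤ q → Q.height ≤ 1 →
      Module.Flat R (Localization.AtPrime Q) ∧ Algebra.IsUnramifiedAt R Q) :
    Module.Flat R (Localization.AtPrime q) ∧ Algebra.IsUnramifiedAt R q := by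
  haveI : IsNoetherianRing S := Algebra.FiniteType.isNoetherianRing R S
  suffices H : ∀ (N : ℕ) (Q : Ideal S) [Q.IsPrime], Q ≤ q → Q.height ≤ N →
      Module.Flat R (Localization.AtPrime Q) ∧ Algebra.IsUnramifiedAt R Q by
    obtain ⟨N, hN⟩ := ENat.ne_top_iff_exists.1 (Ideal.height_ne_top (I := q) Ideal.IsPrime.ne_top')
    exact H N q le_rfl hN.ge
  intro N
  induction N with
  | zero => exact fun Q _ hQ h0 => hbase Q hQ (h0.trans (by norm_num))
  | succ N ih =>
    intro Q _ hQ hN
    by_cases h1 : Q.height ≤ 1
    · exact hbase Q hQ h1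
    have hlt : ∀ (Q' : Ideal S) [Q'.IsPrime], Q' < Q →
        Module.Flat R (Localization.AtPrime Q') ∧ Algebra.IsUnramifiedAt R Q' := fun Q' _ h => by
      refine ih Q' (h.le.trans hQ) ?_
      have h2 := (Ideal.height_add_one_le_of_lt_of_isPrime h).trans hN
      rw [Nat.cast_succ] at h2
      exact (ENat.add_le_add_iff_right ENat.one_ne_top).1 h2
    -- the hypotheses localise
    let M := q.primeCompl
    have hd : Disjoint (M : Set S) (Q : Set S) := Set.disjoint_left.2 fun x hx hxQ => hx (hQ hxQ)
    haveI := IsLocalization.isPrime_of_isPrime_disjoint M (Localization.AtPrime q) Q inferInstance hd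
    let Qq := Q.map (algebraMap S (Localization.AtPrime q))
    have hQq : Qq.comap (algebraMap S (Localization.AtPrime q)) = Q :=
      IsLocalization.under_map_of_isPrime_disjoint M (Localization.AtPrime q) inferInstance hd
    let E := Localization.AtPrime Qq
    haveI : IsLocalization.AtPrime E Q := by
      haveI := IsLocalization.isLocalization_isLocalization_atPrime_isLocalization M E Qq
      exact isLocalization_congr hQq
    let eE : E ≃+* Localization.AtPrime Q :=
      (IsLocalization.algEquiv Q.primeCompl E (Localization.AtPrime Q)).toRingEquiv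
    have hnd : Qq.primeCompl ≤ nonZeroDivisors (Localization.AtPrime q) := Qq.primeCompl_le_nonZeroDivisors
    haveI : IsDomain E := IsLocalization.isDomain_of_le_nonZeroDivisors E hnd
    haveI : IsIntegrallyClosed E := isIntegrallyClosed_of_isLocalization E Qq.primeCompl hnd
    haveI : IsDomain (Localization.AtPrime Q) := eE.symm.injective.isDomain eE.symm.toRingHom
    haveI : IsIntegrallyClosed (Localization.AtPrime Q) := IsIntegrallyClosed.of_equiv eE
    haveI : IsRegularLocalRing (Localization.AtPrime (Q.under R)) := by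
      have hle : Q.under R ≤ q.under R := Ideal.comap_mono hQ
      let M' := (q.under R).primeCompl
      have hd' : Disjoint (M' : Set R) (Q.under R : Set R) := Set.disjoint_left.2 fun x hx hxQ => hx (hle hxQ)
      haveI := IsLocalization.isPrime_of_isPrime_disjoint M' (Localization.AtPrime (q.under R)) (Q.under R) inferInstance hd'
      let Pp := (Q.under R).map (algebraMap R (Localization.AtPrime (q.under R)))
      have hPp : Pp.comap (algebraMap R (Localization.AtPrime (q.under R))) = Q.under R :=
        IsLocalization.under_map_of_isPrime_disjoint M' (Localization.AtPrime (q.under R)) inferInstance hd'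
      haveI : IsLocalization.AtPrime (Localization.AtPrime Pp) (Q.under R) := by
        haveI := IsLocalization.isLocalization_isLocalization_atPrime_isLocalization M' (Localization.AtPrime Pp) Pp
        exact isLocalization_congr hPp
      haveI := CommAlgDim.isRegularLocalRing_localization (Localization.AtPrime (q.under R)) Pp
      exact IsRegularLocalRing.of_ringEquiv (R := Localization.AtPrime Pp)
        (IsLocalization.algEquiv (Q.under R).primeCompl _ _).toRingEquiv
    haveI : Q.LiesOver (Q.under R) := ⟨rfl⟩
    have hd2 : (2 : WithBot ℕ∞) ≤ ringKrullDim (Localization.AtPrime Q) := by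
      rw [IsLocalization.AtPrime.ringKrullDim_eq_height Q]
      refine WithBot.coe_le_coe.2 ?_
      rw [not_le] at h1
      exact Order.add_one_le_of_lt h1
    obtain ⟨hdim, hqf⟩ := dim_quasiFinite (Q.under R) Q hd2 hlt
    haveI := hqf
    refine PurityLib.flat_unramified_of_normal R S (Q.under R) Q hdim (le_trans ?_ hd2) ?_
    · exact WithBot.coe_le_coe.2 (by norm_num)
    · exact fun Q' _ hle h => (hbase Q' (hle.trans hQ) h.le).2

end PurityRamLib
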