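import Groth.Agent.PurityRamLib.Chart
import Groth.Agent.PurityRamLib.Cut
import Groth.Agent.CatLib.CM
import Groth.Agent.NagataFG.FiniteType
import Groth.Agent.NagataFG.Main
import Groth.Agent.SemilocalNormLib.Main
import Groth.Agent.S7652

/-! # The local ring of the presentation at the point -/

set_option autoImplicit false
noncomputable section
universe u

open IsLocalRing
open scoped nonZeroDivisors

namespace PurityRamLib

attribute [local instance 10000] Ring.toIntAlgebra

variable {A : Type u} [CommRing A] {B : Type u} [CommRing B] [IsLocalRing B] {n : ℕ}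
  (ψ : MvPolynomial (Fin n) A →+* B)

/-- The local ring of affine space at the point. -/
abbrev Pt : Type u := Localization.AtPrime ((maximalIdeal B).comap ψ)

/-- The map from the local ring of affine space. -/
def loc : Pt ψ →+* B :=
  IsLocalization.lift (M := ((maximalIdeal B).comap ψ).primeCompl) (g := ψ)
    fun y => notMem_maximalIdeal.1 y.2

theorem loc_algebraMap (x : MvPolynomial (Fin n) A) : loc ψ (algebraMap _ (Pt ψ) x) = ψ x :=
  IsLocalization.lift_eq _ x

theorem loc_surjective (hψ : LocSurj ψ) : Function.Surjective (loc ψ) := fun b => by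
  obtain ⟨x, t, ht, h⟩ := hψ b
  refine ⟨IsLocalization.mk' (Pt ψ) x
    (⟨t, fun h' => (mem_maximalIdeal _).1 h' ht⟩ : ((maximalIdeal B).comap ψ).primeCompl), ?_⟩
  unfold loc
  rw [IsLocalization.lift_mk'_spec]
  exact h.symm

/-- The partial derivatives on the local ring. -/
def locDer (j : Fin n) : Derivation ℤ (Pt ψ) (Pt ψ) :=
  (exists_loc_der ((maximalIdeal B).comap ψ).primeCompl (Pt ψ) (pd j)).choose

theorem locDer_algebraMap (j : Fin n) (x : MvPolynomial (Fin n) A) :
    locDer ψ j (algebraMap _ (Pt ψ) x) = algebraMap _ (Pt ψ) (pd j x) :=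
  (exists_loc_der ((maximalIdeal B).comap ψ).primeCompl (Pt ψ) (pd j)).choose_spec x

theorem locDer_C (j : Fin n) (a : A) :
    locDer ψ j (algebraMap _ (Pt ψ) (MvPolynomial.C (σ := Fin n) a)) = 0 := by
  rw [locDer_algebraMap]
  show algebraMap _ _ (MvPolynomial.pderiv j (MvPolynomial.C a)) = 0
  rw [MvPolynomial.pderiv_C, map_zero]

theorem jac_loc (g : Fin n → MvPolynomial (Fin n) A) :
    jac (locDer ψ) (loc ψ) (fun i => algebraMap _ (Pt ψ) (g i)) = jac pd ψ g :=
  Matrix.ext fun i j => by rw [jac_apply, jac_apply, locDer_algebraMap, loc_algebraMap]; rfl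

theorem et_loc (Q : Ideal B) [Q.IsPrime] (h : Et pd ψ Q) : Et (locDer ψ) (loc ψ) Q := by
  obtain ⟨g, hg, hdet, hgen⟩ := h
  refine ⟨fun i => algebraMap _ (Pt ψ) (g i), fun i => by rw [loc_algebraMap, hg],
    by rw [jac_loc]; exact hdet, fun z hz => ?_⟩
  obtain ⟨x, t, rfl⟩ := IsLocalization.exists_mk'_eq ((maximalIdeal B).comap ψ).primeCompl z
  have hx : ψ x = 0 := by
    rw [← loc_algebraMap ψ, ← IsLocalization.mk'_spec (Pt ψ) x t, map_mul, hz, zero_mul]
  obtain ⟨w, hw, hwx⟩ := hgen x hx
  refine ⟨algebraMap _ (Pt ψ) w, by rwa [loc_algebraMap], ?_⟩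
  rw [show (Set.range fun i => algebraMap _ (Pt ψ) (g i)) = algebraMap _ (Pt ψ) '' Set.range g from
    Set.range_comp _ g, ← Ideal.map_span, ← IsLocalization.mk'_one (M := ((maximalIdeal B).comap ψ).primeCompl) (Pt ψ) w,
    ← IsLocalization.mk'_mul, IsLocalization.mk'_mem_map_algebraMap_iff]
  exact ⟨1, Submonoid.one_mem _, by rwa [one_mul]⟩

section Regular

variable [IsRegularLocalRing A]

theorem isRegularRing_mvPolynomial : IsRegularRing (MvPolynomial (Fin n) A) := by
  haveI := CommAlgDim.isRegularRing_of_isRegularLocalRing A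
  infer_instance

theorem isRegularRing_quotient_C (a : A) (ha : a ∈ maximalIdeal A) (ha2 : a ∉ maximalIdeal A ^ 2) :
    IsRegularRing (MvPolynomial (Fin n) A ⧸ Ideal.span {MvPolynomial.C a}) := by
  haveI := CommAlgDim.isRegularLocalRing_quotient_singleton ha ha2
  haveI := CommAlgDim.isRegularRing_of_isRegularLocalRing (A ⧸ Ideal.span {a})
  haveI : IsRegularRing (MvPolynomial (Fin n) (A ⧸ Ideal.span {a})) := inferInstance
  exact IsRegularRing.of_ringEquiv ((MvPolynomial.quotientEquivQuotientMvPolynomial (Ideal.span {a})).toRingEquiv.trans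
    (Ideal.quotEquivOfEq (by rw [Ideal.map_span, Set.image_singleton])))

theorem isRegularLocalRing_pt : IsRegularLocalRing (Pt ψ) := by
  haveI := isRegularRing_mvPolynomial (A := A) (n := n)
  infer_instance

variable [IsDomain B]

/-- The dimension formula at the point. -/
theorem ringKrullDim_add (hψ : LocSurj ψ) (hbot : Et pd ψ ⊥) :
    ringKrullDim B + n = ((maximalIdeal B).comap ψ).height := by
  haveI := isRegularRing_mvPolynomial (A := A) (n := n)
  haveI := isRegularLocalRing_pt ψ
  haveI : IsRegularRing (Pt ψ) := CommAlgDim.isRegularRing_of_isRegularLocalRing _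
  haveI : (⊥ : Ideal B).IsPrime := Ideal.isPrime_bot
  have h1 := (et_regular (loc ψ) ⊥ (locDer ψ) (locSurj_of_surjective (loc_surjective ψ hψ)) (et_loc ψ ⊥ hbot)).2
  rw [Ideal.height_bot, zero_add, ← RingHom.ker_eq_comap_bot] at h1
  haveI := RingHom.ker_isPrime (loc ψ)
  have h2 := CatLib.ringKrullDim_quotient_add_height (CommAlgDim.isCM_of_isRegularLocalRing (Pt ψ)) (RingHom.ker (loc ψ))
  rw [ringKrullDim_eq_of_ringEquiv (RingHom.quotientKerEquivOfSurjective (loc_surjective ψ hψ)), ← h1,
    IsLocalization.AtPrime.ringKrullDim_eq_height ((maximalIdeal B).comap ψ) (Pt ψ)] at h2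
  exact h2

theorem ringKrullDim_le (hψ : LocSurj ψ) (hm : (maximalIdeal B).comap (ψ.comp MvPolynomial.C) = maximalIdeal A)
    (hbot : Et pd ψ ⊥) : ringKrullDim B ≤ ringKrullDim A := by
  have h := ringKrullDim_add ψ hψ hbot
  have h2 := height_le_comap_add n ((maximalIdeal B).comap ψ)
  rw [show ((maximalIdeal B).comap ψ).comap MvPolynomial.C = maximalIdeal A from hm] at h2
  rw [← IsLocalRing.maximalIdeal_height_eq_ringKrullDim (R := A)]
  have h3 : ringKrullDim B + n ≤ ((maximalIdeal A).height : WithBot ℕ∞) + (n : WithBot ℕ∞) := by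
    rw [h]
    exact_mod_cast h2
  obtain ⟨e, he⟩ := CommAlgDim.exists_ringKrullDim_eq (R := A)
  rw [IsLocalRing.maximalIdeal_height_eq_ringKrullDim, he] at h3 ⊢
  revert h3
  generalize ringKrullDim B = d
  induction d using WithBot.recBotCoe with
  | bot => exact fun _ => bot_le
  | coe d =>
    induction d using ENat.recTopCoe with
    | top =>
      intro h3
      rw [show ((n : ℕ) : WithBot ℕ∞) = (((n : ℕ) : ℕ∞) : WithBot ℕ∞) from rfl, show ((e : ℕ) : WithBot ℕ∞) = (((e : ℕ) : ℕ∞) : WithBot ℕ∞) from rfl, ← WithBot.coe_add, ← WithBot.coe_add, WithBot.coe_le_coe, top_add, top_le_iff] at h3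
      exact absurd h3 (ENat.natCast_ne_top (e + n))
    | coe d => intro h3; norm_cast at h3 ⊢; omega

/-- A parameter of the base does not die. -/
theorem param_ne_zero (hψ : LocSurj ψ) (hbot : Et pd ψ ⊥) (a : A) (ha : a ∈ maximalIdeal A)
    (ha2 : a ∉ maximalIdeal A ^ 2) : ψ (MvPolynomial.C a) ≠ 0 := by
  intro hzero
  haveI := isRegularRing_mvPolynomial (A := A) (n := n)
  haveI := CommAlgDim.isDomain_of_isRegularLocalRing A
  haveI : (⊥ : Ideal B).IsPrime := Ideal.isPrime_bot
  obtain ⟨g, hg, hdet, hgen⟩ := hbot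
  let R := MvPolynomial (Fin n) A
  let q : Ideal R := (⊥ : Ideal B).comap ψ
  let S := Localization.AtPrime q
  choose D' hD' using fun j => exists_loc_der q.primeCompl S (pd (A := A) j)
  have hgm : ∀ i, algebraMap R S (g i) ∈ maximalIdeal S := fun i =>
    (IsLocalization.AtPrime.to_map_mem_maximal_iff S q (g i)).2
      (by rw [Ideal.mem_comap, hg]; exact zero_mem _)
  have hu : IsUnit (jac D' (RingHom.id S) fun i => algebraMap R S (g i)).det := by
    have e : (jac D' (RingHom.id S) fun i => algebraMap R S (g i)) = jac pd (algebraMap R S) g :=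
      Matrix.ext fun i j => hD' j (g i)
    rw [e, det_jac_eq]
    refine IsLocalization.map_units S (⟨_, ?_⟩ : q.primeCompl)
    exact fun h => hdet (by rw [det_jac_eq]; exact h)
  have hker : algebraMap R S (MvPolynomial.C a) ∈ Ideal.span (Set.range fun i => algebraMap R S (g i)) := by
    rw [← ker_locMap ψ ⊥ hψ hg hgen, RingHom.mem_ker]
    refine (locMap_to_map ψ ⊥ (MvPolynomial.C a)).trans ?_
    rw [hzero, map_zero]
  obtain ⟨c, hc⟩ := Ideal.mem_span_range_iff_exists_fun.1 hker
  have hcm : ∀ i, c i ∈ maximalIdeal S := by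
    have h1 : ∀ k, ∑ i, c i * D' k (algebraMap R S (g i)) ∈ maximalIdeal S := fun k => by
      have h2 := congrArg (D' k) hc
      have h0 : D' k (algebraMap R S (MvPolynomial.C a)) = 0 :=
        (hD' k (MvPolynomial.C a)).trans ((congrArg (algebraMap R S) MvPolynomial.pderiv_C).trans (map_zero _))
      rw [map_sum, h0] at h2
      simp only [Derivation.leibniz, smul_eq_mul, Finset.sum_add_distrib] at h2
      rw [eq_neg_of_add_eq_zero_left h2]
      exact neg_mem (Ideal.sum_mem _ fun i _ => Ideal.mul_mem_right _ _ (hgm i))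
    have hu' : IsUnit (jac D' (residue S) fun i => algebraMap R S (g i)).det := by
      rw [det_jac_eq]; exact hu.map (residue S)
    have h3 : Matrix.vecMul (fun i => residue S (c i))
        (jac D' (residue S) fun i => algebraMap R S (g i)) = 0 := funext fun k => by
      show ∑ i, residue S (c i) * residue S (D' k (algebraMap R S (g i))) = 0
      simp only [← map_mul]
      rw [← map_sum]
      exact (residue_eq_zero_iff _).2 (h1 k)
    exact fun i => (residue_eq_zero_iff _).1 (congrFun (Matrix.eq_zero_of_vecMul_eq_zero hu'.ne_zero h3) i)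
  haveI := isRegularRing_quotient_C (n := n) a ha ha2
  have haq : Ideal.span {(MvPolynomial.C a : R)} ≤ q :=
    (Ideal.span_singleton_le_iff_mem _).2 (by rw [Ideal.mem_comap, hzero]; exact zero_mem _)
  obtain ⟨hp, ⟨e⟩⟩ := LiaisonLib.exists_quot_equiv haq
  haveI := hp
  haveI : IsRegularLocalRing (S ⧸ (Ideal.span {(MvPolynomial.C a : R)}).map (algebraMap R S)) := by
    exact IsRegularLocalRing.of_ringEquiv
      (R := Localization.AtPrime (q.map (Ideal.Quotient.mk (Ideal.span {(MvPolynomial.C a : R)})))) e.symm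
  have hne : (Ideal.span {(MvPolynomial.C a : R)}).map (algebraMap R S) ≠ ⊥ := by
    rw [Ideal.map_span, Set.image_singleton, Ne, Ideal.span_singleton_eq_bot]
    intro h0
    have h1 := (IsLocalization.injective S q.primeCompl_le_nonZeroDivisors) (h0.trans (map_zero _).symm)
    exact ha2 ((MvPolynomial.C_eq_zero.1 h1).symm ▸ zero_mem _)
  refine CommAlgDim.not_le_sq_of_regular_quotient hne ?_
  rw [Ideal.map_span, Set.image_singleton, Ideal.span_singleton_le_iff_mem, ← hc, sq]
  exact Ideal.sum_mem _ fun i _ => Ideal.mul_mem_mul (hcm i) (hgm i)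

end Regular

theorem isNagata_of_locSurj (hA : CAlg.IsNagata A) (hψ : LocSurj ψ) : CAlg.IsNagata B :=
  NagataFG.isNagata_of_surjective (loc ψ) (loc_surjective ψ hψ)
    (NagataFG.isNagata_of_isLocalization ((maximalIdeal B).comap ψ).primeCompl (Pt ψ)
      (NagataFG.isNagata_of_finiteType A hA _))

/-- Finiteness of the normalisation of a reduced Nagata ring. -/
theorem finite_normalisation (C : Type u) [CommRing C] [IsReduced C] (hN : CAlg.IsNagata C) :
    Module.Finite C (integralClosure C (FractionRing C)) := by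
  haveI := hN.1
  let F := FractionRing C
  haveI : IsArtinianRing F := Groth.Agent.S7652.isArtinianRing_fractionRing C
  haveI : IsReduced F := isReduced_localizationPreserves C⁰ F ‹IsReduced C›
  haveI : Algebra.QuasiFinite C F := Algebra.QuasiFinite.of_isLocalization C⁰
  haveI : Finite (PrimeSpectrum F) := inferInstance
  haveI : ∀ P : PrimeSpectrum F, Module.Finite C (integralClosure C P.asIdeal.ResidueField) := fun P =>
    SemilocalNormLib.finite_integralClosure_residueField hN P.asIdeal
  let Φ : integralClosure C F →ₐ[C] ∀ P : PrimeSpectrum F, integralClosure C P.asIdeal.ResidueField :=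
    Pi.algHom C _ fun P => ((IsScalarTower.toAlgHom C F P.asIdeal.ResidueField).comp
      (integralClosure C F).val).codRestrict _ fun x =>
        (x.2 : IsIntegral C x.1).map (IsScalarTower.toAlgHom C F P.asIdeal.ResidueField)
  refine Module.Finite.of_injective Φ.toLinearMap ((injective_iff_map_eq_zero Φ.toLinearMap).2 fun x hx => ?_)
  refine Subtype.ext (IsReduced.eq_zero _ (nilpotent_iff_mem_prime.2 fun J hJ => ?_))
  exact Ideal.algebraMap_residueField_eq_zero.1 (congrArg Subtype.val (congr_fun hx ⟨J, hJ⟩))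

end PurityRamLib
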